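import Mathlib.GroupTheory.PGroup
import Mathlib.GroupTheory.Perm.Cycle.Type
import Mathlib.GroupTheory.QuotientGroup.Basic
import Mathlib.GroupTheory.Index
import Mathlib.GroupTheory.Commutator.Basic

/-!
A 2-group with an involutory automorphism whose fixed points form a central four-group, and a
commuting automorphism of order 3 without fixed points on it: general lemmas.
-/

set_option autoImplicit false

namespace CfsgLib.LocalEven.FixedFours

open scoped commutatorElement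

variable {T : Type*} [Group T] [Finite T]

/-- An involutory automorphism of a finite 2-group has a nontrivial fixed point in each nontrivial
invariant subgroup. -/
theorem exists_fixed (hP : IsPGroup 2 T) (τ : MulAut T) (h2 : ∀ x, τ (τ x) = x) (S : Subgroup T)
    (hS : ∀ x ∈ S, τ x ∈ S) (hne : S ≠ ⊥) : ∃ x ∈ S, x ≠ 1 ∧ τ x = x := by
  classical
  haveI : Fintype T := Fintype.ofFinite T
  haveI : Fact (Nat.Prime 2) := ⟨Nat.prime_two⟩
  let σ : Equiv.Perm {x : T // x ∈ S ∧ x ≠ 1} :=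
    Function.Involutive.toPerm (fun x => ⟨τ x.1, hS _ x.2.1, fun h => x.2.2 (τ.map_eq_one_iff.1 h)⟩)
      fun x => Subtype.ext (h2 x.1)
  have hσ : σ ^ 2 ^ 1 = 1 := Equiv.ext fun x => by
    rw [pow_one, pow_two]; exact Subtype.ext (h2 x.1)
  have hodd : ¬ 2 ∣ Fintype.card {x : T // x ∈ S ∧ x ≠ 1} := by
    haveI : Nontrivial ↥S := (Subgroup.nontrivial_iff_ne_bot S).2 hne
    obtain ⟨n, hn0, hn⟩ := (hP.to_subgroup S).nontrivial_iff_card.1 inferInstance
    have h1 : Fintype.card {x : T // x ∈ S ∧ x ≠ 1} = Fintype.card ↥S - 1 := by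
      rw [Fintype.card_subtype, Fintype.card_subtype, show (Finset.univ.filter fun x : T => x ∈ S ∧ x ≠ 1)
        = (Finset.univ.filter fun x : T => x ∈ S).erase 1 by ext; simp [and_comm],
        Finset.card_erase_of_mem (by simpa using S.one_mem)]
    rw [h1, ← Nat.card_eq_fintype_card, hn]
    obtain ⟨m, rfl⟩ : ∃ m, n = m + 1 := ⟨n - 1, by omega⟩
    rw [pow_succ]
    have : 1 ≤ 2 ^ m := Nat.one_le_two_pow
    omega
  obtain ⟨⟨x, hx, hx1⟩, hfix⟩ :=
    Equiv.Perm.exists_fixed_point_of_prime (p := 2) (n := 1) hodd hσ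
  exact ⟨x, hx, hx1, congrArg Subtype.val hfix⟩

/-- The hypotheses. -/
structure TV (V : Subgroup T) (ρ τ : MulAut T) : Prop where
  isP : IsPGroup 2 T
  card : Nat.card ↥V = 4
  cen : V ≤ Subgroup.center T
  sq : ∀ v ∈ V, v * v = 1
  rho_mem : ∀ v ∈ V, ρ v ∈ V
  rho3 : ∀ x, ρ (ρ (ρ x)) = x
  tau2 : ∀ x, τ (τ x) = x
  comm : ∀ x, τ (ρ x) = ρ (τ x)
  fix : ∀ x, τ x = x ↔ x ∈ V
  fpf : ∀ v ∈ V, ρ v = v → v = 1

omit [Finite T] in
/-- A nontrivial subgroup of a four-group invariant under a fixed-point-free automorphism is all of it. -/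
theorem four_le [Finite T] {V : Subgroup T} {ρ : MulAut T} (hcard : Nat.card ↥V = 4)
    (hfpf : ∀ v ∈ V, ρ v = v → v = 1) (S : Subgroup T) (hSV : S ≤ V) (hS : ∀ x ∈ S, ρ x ∈ S)
    (hne : S ≠ ⊥) : V ≤ S := by
  classical
  obtain ⟨⟨v, hv⟩, hvne⟩ := (Subgroup.ne_bot_iff_exists_ne_one).1 hne
  have hv1 : v ≠ 1 := fun h => hvne (Subtype.ext h)
  have h3 : 3 ≤ Nat.card ↥S := by
    have hne1 : ρ v ≠ 1 := fun h => hv1 (ρ.map_eq_one_iff.1 h)
    have hne2 : ρ v ≠ v := fun h => hv1 (hfpf v (hSV hv) h)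
    have hsub : ({1, v, ρ v} : Set T) ⊆ (S : Set T) := by
      intro z hz
      rcases hz with rfl | rfl | rfl
      exacts [S.one_mem, hv, hS v hv]
    have := Set.ncard_le_ncard hsub (Set.toFinite _)
    rw [Set.ncard_eq_three.2 ⟨1, v, ρ v, fun h => hv1 h.symm, fun h => hne1 h.symm,
      fun h => hne2 h.symm, rfl⟩, ← Nat.card_coe_set_eq] at this
    exact this
  have h4 := Subgroup.card_dvd_of_le hSV
  rw [hcard] at h4
  have hle := Nat.le_of_dvd (by norm_num) h4
  have : Nat.card ↥S ≠ 3 := fun h => by rw [h] at h4; norm_num at h4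
  exact (Subgroup.eq_of_le_of_card_ge hSV (by omega)).ge

namespace TV

variable {V : Subgroup T} {ρ τ : MulAut T}

theorem rho_tau (h : TV V ρ τ) (x : T) : ρ (τ x) = τ (ρ x) := (h.comm x).symm

theorem le_of_invariant (h : TV V ρ τ) (S : Subgroup T) (hρ : ∀ x ∈ S, ρ x ∈ S)
    (hτ : ∀ x ∈ S, τ x ∈ S) (hne : S ≠ ⊥) : V ≤ S := by
  obtain ⟨x, hx, hx1, hfx⟩ := exists_fixed h.isP τ h.tau2 S hτ hne
  refine le_trans (four_le h.card h.fpf (S ⊓ V) inf_le_right
    (fun z hz => ⟨hρ z hz.1, h.rho_mem z hz.2⟩) ?_) inf_le_left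
  exact fun hbot => hx1 ((Subgroup.eq_bot_iff_forall _).1 hbot x ⟨hx, (h.fix x).1 hfx⟩)

theorem fpf_all (h : TV V ρ τ) {x : T} (hx : ρ x = x) : x = 1 := by
  let S : Subgroup T :=
    { carrier := {z | ρ z = z}
      one_mem' := map_one ρ
      mul_mem' := fun {a b} ha hb => by
        show ρ (a * b) = a * b
        rw [map_mul, ha, hb]
      inv_mem' := fun {a} ha => by
        show ρ a⁻¹ = a⁻¹
        rw [map_inv, ha] }
  by_contra hne
  have hle := h.le_of_invariant S (fun z hz => congrArg ρ hz)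
    (fun z hz => by show ρ (τ z) = τ z; rw [h.rho_tau, hz]) fun hbot =>
      hne ((Subgroup.eq_bot_iff_forall _).1 hbot x hx)
  have hbot : V = ⊥ := (Subgroup.eq_bot_iff_forall _).2 fun v hv => h.fpf v hv (hle hv)
  have := h.card
  rw [hbot, Subgroup.card_bot] at this
  norm_num at this

theorem rho_sq_fpf (h : TV V ρ τ) {x : T} (hx : ρ (ρ x) = x) : x = 1 :=
  h.fpf_all (by conv_rhs => rw [← h.rho3 x, hx])

theorem twist_injective (h : TV V ρ τ) : Function.Injective fun x => x⁻¹ * ρ x := by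
  intro x y e
  change x⁻¹ * ρ x = y⁻¹ * ρ y at e
  refine mul_inv_eq_one.1 (h.fpf_all ?_)
  have e' : ρ x = x * (y⁻¹ * ρ y) := by rw [← e]; group
  rw [map_mul, map_inv, e']
  group

theorem exists_twist (h : TV V ρ τ) (g : T) : ∃ x, x⁻¹ * ρ x = g :=
  Finite.injective_iff_surjective.1 h.twist_injective g

theorem exists_twist_sq (h : TV V ρ τ) (g : T) : ∃ x, x⁻¹ * ρ (ρ x) = g := by
  suffices hinj : Function.Injective fun x => x⁻¹ * ρ (ρ x) from
    Finite.injective_iff_surjective.1 hinj g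
  intro x y e
  change x⁻¹ * ρ (ρ x) = y⁻¹ * ρ (ρ y) at e
  refine mul_inv_eq_one.1 (h.rho_sq_fpf ?_)
  have e' : ρ (ρ x) = x * (y⁻¹ * ρ (ρ y)) := by rw [← e]; group
  rw [map_mul, map_mul, map_inv, map_inv, e']
  group

/-- An element in the coset of an invariant subgroup with its image lies in it. -/
theorem mem_of_twist_mem (h : TV V ρ τ) (S : Subgroup T) (hS : ∀ x ∈ S, ρ x ∈ S) {x : T}
    (hx : x⁻¹ * ρ x ∈ S) : x ∈ S := by
  have hinj : Function.Injective fun s : ↥S =>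
      (⟨(s : T)⁻¹ * ρ s, S.mul_mem (S.inv_mem s.2) (hS _ s.2)⟩ : ↥S) :=
    fun a b e => Subtype.ext (h.twist_injective (congrArg Subtype.val e))
  obtain ⟨s, hs⟩ := Finite.injective_iff_surjective.1 hinj ⟨_, hx⟩
  exact (h.twist_injective (congrArg Subtype.val hs) : (s : T) = x) ▸ s.2

theorem mul_three (h : TV V ρ τ) (x : T) : x * ρ x * ρ (ρ x) = 1 := by
  obtain ⟨z, rfl⟩ := h.exists_twist x
  simp only [map_mul, map_inv, h.rho3]
  group

theorem rho_sq_eq (h : TV V ρ τ) (x : T) : ρ (ρ x) = (x * ρ x)⁻¹ :=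
  eq_inv_of_mul_eq_one_right (h.mul_three x)

theorem commute_rho (h : TV V ρ τ) (x : T) : Commute x (ρ x) := by
  -- both products `x * ρ x` and `ρ x * x` are inverse to `ρ (ρ x)`
  obtain ⟨z, hz⟩ := h.exists_twist_sq x
  have h2 : x * ρ (ρ x) * ρ x = 1 := by
    rw [← hz]
    simp only [map_mul, map_inv, h.rho3]
    group
  have h3 : ρ x * x * ρ (ρ x) = 1 := by
    have := congrArg (fun w => ρ x * w * (ρ x)⁻¹) h2
    simpa [mul_assoc] using this
  exact (eq_inv_of_mul_eq_one_left (h.mul_three x)).trans (eq_inv_of_mul_eq_one_left h3).symm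

/-- An element commutes with all its conjugates. -/
theorem commute_conj (h : TV V ρ τ) (x g : T) : Commute x (g * x * g⁻¹) := by
  have h1 : ∀ g : T, Commute x (g * ρ x * g⁻¹) := by
    intro g
    obtain ⟨k, rfl⟩ := h.exists_twist g
    have := (h.commute_rho (k * x * k⁻¹)).map (MulAut.conj k⁻¹)
    simpa [map_mul, map_inv, mul_assoc] using this
  have h2 : ∀ g : T, Commute x (g * ρ (ρ x) * g⁻¹) := by
    intro g
    obtain ⟨k, rfl⟩ := h.exists_twist_sq g
    have hc : ∀ y, Commute y (ρ (ρ y)) := fun y => by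
      have := (h.commute_rho (ρ (ρ y)))
      rw [h.rho3] at this
      exact this.symm
    have := (hc (k * x * k⁻¹)).map (MulAut.conj k⁻¹)
    simpa [map_mul, map_inv, mul_assoc] using this
  have e : x = (ρ (ρ x))⁻¹ * (ρ x)⁻¹ := by
    rw [← mul_inv_rev]; exact eq_inv_of_mul_eq_one_left (by rw [← mul_assoc]; exact h.mul_three x)
  have : g * x * g⁻¹ = (g * ρ (ρ x) * g⁻¹)⁻¹ * (g * ρ x * g⁻¹)⁻¹ := by
    conv_lhs => rw [e]
    group
  rw [this]
  exact (h2 g).inv_right.mul_right (h1 g).inv_right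

end TV

end CfsgLib.LocalEven.FixedFours
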