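import Cfsg.Agent.Lib.LocalEven.FixedFours.Basic

/-!
Commutators with central values in a group with a fixed-point-free automorphism of order 3.
-/

set_option autoImplicit false

namespace CfsgLib.LocalEven.FixedFours

open scoped commutatorElement

variable {T : Type*} [Group T] [Finite T]

omit [Finite T] in
theorem comm_mul_left {p q z : T} (h : ⁅q, z⁆ ∈ Subgroup.center T) : ⁅p * q, z⁆ = ⁅p, z⁆ * ⁅q, z⁆ := by
  have e : p * ⁅q, z⁆ = ⁅q, z⁆ * p := Subgroup.mem_center_iff.1 h p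
  calc ⁅p * q, z⁆ = (p * ⁅q, z⁆) * (z * p⁻¹ * z⁻¹) := by rw [commutatorElement_def, commutatorElement_def]; group
    _ = ⁅q, z⁆ * ⁅p, z⁆ := by rw [e, commutatorElement_def, commutatorElement_def]; group
    _ = ⁅p, z⁆ * ⁅q, z⁆ := (Subgroup.mem_center_iff.1 h _).symm

omit [Finite T] in
theorem comm_mul_right {z p q : T} (h : ⁅z, q⁆ ∈ Subgroup.center T) : ⁅z, p * q⁆ = ⁅z, p⁆ * ⁅z, q⁆ := by
  have h' : ⁅q, z⁆ ∈ Subgroup.center T := by
    rw [← commutatorElement_inv]; exact inv_mem h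
  rw [← commutatorElement_inv (p * q) z, comm_mul_left h', mul_inv_rev, commutatorElement_inv,
    commutatorElement_inv]
  exact (Subgroup.mem_center_iff.1 h _).symm

omit [Finite T] in
theorem comm_inv_right {z q : T} (h : ⁅z, q⁆ ∈ Subgroup.center T) : ⁅z, q⁻¹⁆ = ⁅z, q⁆⁻¹ := by
  have := comm_mul_right (p := q⁻¹) h
  rw [inv_mul_cancel, commutatorElement_one_right] at this
  exact eq_inv_of_mul_eq_one_left this.symm

/-- `{z | ⁅t, z⁆ ∈ A}` for central `A`. -/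
def commIn (t : T) (A : Subgroup T) (hA : A ≤ Subgroup.center T) : Subgroup T where
  carrier := {z | ⁅t, z⁆ ∈ A}
  one_mem' := by simp
  mul_mem' := fun {a b} ha hb => by
    show ⁅t, a * b⁆ ∈ A
    rw [comm_mul_right (hA hb)]; exact A.mul_mem ha hb
  inv_mem' := fun {a} ha => by
    show ⁅t, a⁻¹⁆ ∈ A
    rw [comm_inv_right (hA ha)]; exact A.inv_mem ha

namespace TV

variable {V : Subgroup T} {ρ τ : MulAut T}

theorem map_comm (ρ : MulAut T) (x y : T) : ρ ⁅x, y⁆ = ⁅ρ x, ρ y⁆ := by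
  simp [commutatorElement_def, map_mul, map_inv]

theorem lin (h : TV V ρ τ) {x y : T} (h1 : ⁅y, ρ x⁆ ∈ Subgroup.center T)
    (h2 : ⁅ρ y, x⁆ ∈ Subgroup.center T) : ⁅x, ρ y⁆ = ⁅ρ x, y⁆ := by
  have e := (h.commute_rho (x * y)).eq
  have e1 : x * y * ρ (x * y) = ⁅y, ρ x⁆ * (ρ x * x * (y * ρ y)) := by
    have hc := Subgroup.mem_center_iff.1 h1 x
    calc x * y * ρ (x * y) = x * ⁅y, ρ x⁆ * (ρ x * y * ρ y) := by
          rw [map_mul, commutatorElement_def]; group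
      _ = ⁅y, ρ x⁆ * (x * ρ x * y * ρ y) := by rw [hc]; group
      _ = _ := by rw [(h.commute_rho x).eq]; group
  have e2 : ρ (x * y) * (x * y) = ⁅ρ y, x⁆ * (ρ x * x * (y * ρ y)) := by
    have hc := Subgroup.mem_center_iff.1 h2 (ρ x)
    calc ρ (x * y) * (x * y) = ρ x * ⁅ρ y, x⁆ * (x * ρ y * y) := by
          rw [map_mul, commutatorElement_def]; group
      _ = ⁅ρ y, x⁆ * (ρ x * x * (ρ y * y)) := by rw [hc]; group
      _ = _ := by rw [(h.commute_rho y).eq]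
  rw [e1, e2] at e
  have e3 := mul_right_cancel e
  calc ⁅x, ρ y⁆ = ⁅ρ y, x⁆⁻¹ := (commutatorElement_inv _ _).symm
    _ = ⁅y, ρ x⁆⁻¹ := by rw [e3]
    _ = ⁅ρ x, y⁆ := commutatorElement_inv _ _

/-- The four basic commutators of two orbits. -/
theorem orbit_comm (h : TV V ρ τ) {x y : T}
    (hx : ∀ z, ⁅x, z⁆ ∈ Subgroup.center T) (hy : ∀ z, ⁅y, z⁆ ∈ Subgroup.center T) :
    ⁅ρ x, y⁆ = ρ (ρ ⁅x, y⁆) ∧ ⁅x, ρ y⁆ = ρ (ρ ⁅x, y⁆) ∧ ⁅ρ x, ρ y⁆ = ρ ⁅x, y⁆ := by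
  have hy' : ∀ z, ⁅ρ y, z⁆ ∈ Subgroup.center T := fun z => by
    obtain ⟨w, rfl⟩ := (MulEquiv.surjective ρ) z
    rw [← map_comm, Subgroup.mem_center_iff]
    intro g
    obtain ⟨g', rfl⟩ := (MulEquiv.surjective ρ) g
    rw [← map_mul, ← map_mul, Subgroup.mem_center_iff.1 (hy w)]
  have hflip : ∀ a b : T, ⁅a, b⁆ ∈ Subgroup.center T → ⁅b, a⁆ ∈ Subgroup.center T := fun a b hab => by
    rw [← commutatorElement_inv]; exact inv_mem hab
  have l1 : ⁅x, ρ y⁆ = ⁅ρ x, y⁆ := h.lin (hy _) (hy' _)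
  have hy'' : ∀ z, ⁅ρ (ρ y), z⁆ ∈ Subgroup.center T := fun z => by
    obtain ⟨w, rfl⟩ := (MulEquiv.surjective ρ) z
    rw [← map_comm, Subgroup.mem_center_iff]
    intro g
    obtain ⟨g', rfl⟩ := (MulEquiv.surjective ρ) g
    rw [← map_mul, ← map_mul, Subgroup.mem_center_iff.1 (hy' w)]
  have l2 : ⁅x, ρ (ρ y)⁆ = ⁅ρ x, ρ y⁆ := h.lin (hy' _) (hy'' _)
  rw [h.rho_sq_eq y, comm_inv_right (hx _), comm_mul_right (hx _), ← map_comm] at l2
  -- `(a * b)⁻¹ = ρ a`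
  set a := ⁅x, y⁆ with ha
  have hb : ⁅x, ρ y⁆ = ρ (ρ a) := by
    rw [h.rho_sq_eq a, mul_inv_rev, ← l2, inv_inv, ← Subgroup.mem_center_iff.1 (hx y) ⁅x, ρ y⁆,
      ← ha]
    exact (mul_inv_cancel_right _ _).symm
  exact ⟨l1 ▸ hb, hb, (map_comm ρ x y).symm⟩

end TV

end CfsgLib.LocalEven.FixedFours
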