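import Mathlib.GroupTheory.Commutator.Basic
import Mathlib.GroupTheory.QuotientGroup.Basic
import Mathlib.GroupTheory.OrderOfElement
import Mathlib.GroupTheory.SpecificGroups.Cyclic

/-!
Restricted conjugation and a lemma on elements fixed in a four-group.
-/

set_option autoImplicit false

namespace CfsgLib.LocalEven.FixedFours

open scoped commutatorElement

variable {G : Type*} [Group G]

/-- Conjugation restricted to a normalized subgroup. -/
def conjRestrict {T : Subgroup G} {g : G} (hg : g ∈ Subgroup.normalizer (T : Set G)) : MulAut ↥T where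
  toFun x := ⟨g * x * g⁻¹, (Subgroup.mem_normalizer_iff.1 hg _).1 x.2⟩
  invFun x := ⟨g⁻¹ * x * g, by
    have := (Subgroup.mem_normalizer_iff.1 (Subgroup.inv_mem _ hg) (x : G)).1 x.2
    simpa using this⟩
  left_inv x := Subtype.ext (by show g⁻¹ * (g * (x : G) * g⁻¹) * g = x; group)
  right_inv x := Subtype.ext (by show g * (g⁻¹ * (x : G) * g) * g⁻¹ = x; group)
  map_mul' x y := Subtype.ext (by
    show g * ((x : G) * y) * g⁻¹ = (g * x * g⁻¹) * (g * y * g⁻¹); group)

/-- If an element of the four-group is fixed, the commutators lie in the group it generates. -/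
theorem commutator_le_of_fixed {V : Subgroup G} (hV : Nat.card ↥V = 4 ∧ ∀ v ∈ V, v ^ 2 = 1) {ρ : G}
    (hρ : ρ ∈ Subgroup.normalizer (V : Set G)) {v : G} (hv : v ∈ V) (hv1 : v ≠ 1)
    (hfix : ρ * v * ρ⁻¹ = v) : ⁅V, Subgroup.zpowers ρ⁆ ≤ Subgroup.zpowers v := by
  classical
  have hcomm : ∀ a ∈ V, ∀ b ∈ V, a * b = b * a := fun a ha b hb => by
    have h := hV.2 _ (V.mul_mem ha hb)
    have ha' : a⁻¹ = a := inv_eq_of_mul_eq_one_right (by rw [← pow_two]; exact hV.2 a ha)
    have hb' : b⁻¹ = b := inv_eq_of_mul_eq_one_right (by rw [← pow_two]; exact hV.2 b hb)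
    rw [pow_two] at h
    calc a * b = (a * b)⁻¹ := (inv_eq_of_mul_eq_one_right h).symm
      _ = b * a := by rw [mul_inv_rev, ha', hb']
  haveI : Finite ↥V := Nat.finite_of_card_ne_zero (by rw [hV.1]; norm_num)
  set Z := Subgroup.zpowers v with hZ
  have hZV : Z ≤ V := Subgroup.zpowers_le.2 hv
  haveI : (Z.subgroupOf V).Normal := ⟨fun n hn g => by
    rw [show g * n * g⁻¹ = n from Subtype.ext (by
      show (g : G) * n * (g : G)⁻¹ = n
      rw [hcomm g g.2 n n.2, mul_inv_cancel_right])]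
    exact hn⟩
  have hi : (Z.subgroupOf V).index = 2 := by
    have hz2 : Nat.card ↥(Z.subgroupOf V) = 2 := by
      rw [Nat.card_congr (Subgroup.subgroupOfEquivOfLe hZV).toEquiv, Nat.card_zpowers]
      exact orderOf_eq_prime (hV.2 v hv) hv1
    have := (Z.subgroupOf V).card_mul_index
    rw [hz2, hV.1] at this
    omega
  rw [Subgroup.commutator_le]
  intro w hw k hk
  obtain ⟨i, rfl⟩ := Subgroup.mem_zpowers_iff.1 hk
  have hn : ∀ m : ℤ, ρ ^ m ∈ Subgroup.normalizer (V : Set G) := fun m => Subgroup.zpow_mem _ hρ m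
  have hz : ∀ m : ℤ, ∀ z ∈ Z, ρ ^ m * z * (ρ ^ m)⁻¹ = z := fun m z hz => by
    obtain ⟨j, rfl⟩ := Subgroup.mem_zpowers_iff.1 hz
    have hc : Commute ρ v := by
      rw [commute_iff_eq]
      calc ρ * v = ρ * v * ρ⁻¹ * ρ := by group
        _ = v * ρ := by rw [hfix]
    rw [((hc.zpow_left m).zpow_right j).eq, mul_inv_cancel_right]
  set z := ρ ^ i * w⁻¹ * (ρ ^ i)⁻¹ with hzdef
  have hzV : z ∈ V := (Subgroup.mem_normalizer_iff.1 (hn i) _).1 (V.inv_mem hw)
  have e : ⁅w, ρ ^ i⁆ = w * z := by rw [commutatorElement_def, hzdef]; group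
  rw [e]
  -- both factors lie on the same side of `Z`
  have key : ((⟨w, hw⟩ : ↥V) * ⟨z, hzV⟩) ∈ Z.subgroupOf V := by
    rw [Subgroup.mul_mem_iff_of_index_two hi]
    constructor
    · intro h
      have h' : w ∈ Z := h
      show z ∈ Z
      rw [hzdef, hz i _ (Z.inv_mem h')]
      exact Z.inv_mem h'
    · intro h
      show w ∈ Z
      have h1 := hz (-i) z h
      rw [zpow_neg, inv_inv, hzdef] at h1
      have h2 : w⁻¹ = z := by rw [hzdef, ← h1]; group
      exact inv_mem_iff.1 (h2 ▸ h)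
  exact key

end CfsgLib.LocalEven.FixedFours
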