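import Cfsg.Agent.Lib.LocalEven.FixedFours.Structure
import Mathlib.GroupTheory.Abelianization.Defs

/-!
The nonabelian case has order 64.
-/

set_option autoImplicit false

namespace CfsgLib.LocalEven.FixedFours

open scoped commutatorElement

universe u

variable {T : Type u} [Group T] [Finite T]

namespace TV

variable {V : Subgroup T} {ρ τ : MulAut T}

theorem center_invariant (ρ : MulAut T) : ∀ z ∈ Subgroup.center T, ρ z ∈ Subgroup.center T := fun z hz =>
  Subgroup.mem_center_iff.2 fun g => by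
    obtain ⟨g, rfl⟩ := MulEquiv.surjective ρ g
    rw [← map_mul, ← map_mul, Subgroup.mem_center_iff.1 hz]

/-- The quotient by `V` satisfies the same hypotheses, with the image of `wGroup`. -/
theorem exists_quotient (h : TV V ρ τ) (hne : ∃ x, x ∉ V) [V.Normal] :
    ∃ ρ' τ' : MulAut (T ⧸ V), TV (h.wGroup.map (QuotientGroup.mk' V)) ρ' τ' := by
  have hρV : V.map ρ.toMonoidHom = V := by
    refine le_antisymm ?_ ?_
    · rintro _ ⟨v, hv, rfl⟩; exact h.rho_mem v hv
    · intro v hv
      exact ⟨ρ (ρ v), h.rho_mem _ (h.rho_mem v hv), h.rho3 v⟩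
  have hτV : V.map τ.toMonoidHom = V := by
    refine le_antisymm ?_ ?_
    · rintro _ ⟨v, hv, rfl⟩
      show τ v ∈ V
      rwa [(h.fix v).2 hv]
    · intro v hv
      exact ⟨v, hv, (h.fix v).2 hv⟩
  set ρ' : MulAut (T ⧸ V) := QuotientGroup.congr V V ρ hρV with hρ'
  set τ' : MulAut (T ⧸ V) := QuotientGroup.congr V V τ hτV with hτ'
  set π := QuotientGroup.mk' V with hπ
  set W' := h.wGroup.map π with hW'
  have hρπ : ∀ x, ρ' (π x) = π (ρ x) := fun x => rfl
  have hτπ : ∀ x, τ' (π x) = π (τ x) := fun x => rfl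
  have hmem : ∀ x, π x ∈ W' ↔ x ∈ h.wGroup := by
    intro x
    refine ⟨?_, fun hx => ⟨x, hx, rfl⟩⟩
    rintro ⟨w, hw, e⟩
    have := h.wGroup.mul_mem hw (h.le_wGroup (QuotientGroup.eq.1 e))
    rwa [mul_inv_cancel_left] at this
  have hfix : ∀ y, τ' y = y ↔ y ∈ W' := by
    intro y
    obtain ⟨x, rfl⟩ := QuotientGroup.mk'_surjective V y
    rw [hmem, hτπ, h.mem_wGroup]
    exact ⟨fun e => QuotientGroup.eq.1 e.symm, fun e => (QuotientGroup.eq.2 e).symm⟩
  have hcard : Nat.card ↥W' = 4 := by
    have h1 := (π.subgroupMap h.wGroup).ker.card_mul_index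
    rw [Subgroup.index_ker, MonoidHom.range_eq_top.2 (π.subgroupMap_surjective h.wGroup),
      Subgroup.card_top, h.card_wGroup_eq hne] at h1
    have hk : (π.subgroupMap h.wGroup).ker = V.subgroupOf h.wGroup := by
      ext w
      rw [MonoidHom.mem_ker, Subgroup.mem_subgroupOf, Subtype.ext_iff]
      exact QuotientGroup.eq_one_iff (N := V) (w : T)
    rw [hk, Nat.card_congr (Subgroup.subgroupOfEquivOfLe h.le_wGroup).toEquiv, h.card] at h1
    change 4 * Nat.card ↥W' = 16 at h1
    omega
  have hρW : ∀ y ∈ W', ρ' y ∈ W' := by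
    rintro _ ⟨x, hx, rfl⟩
    exact ⟨ρ x, h.rho_mem_wGroup hx, rfl⟩
  have hfpf : ∀ y ∈ W', ρ' y = y → y = 1 := by
    intro y _ hy
    obtain ⟨x, rfl⟩ := QuotientGroup.mk'_surjective V y
    rw [hρπ] at hy
    exact (QuotientGroup.eq_one_iff x).2 (h.mem_of_twist_mem V h.rho_mem (QuotientGroup.eq.1 hy.symm))
  have hτ2 : ∀ y, τ' (τ' y) = y := fun y => by
    obtain ⟨x, rfl⟩ := QuotientGroup.mk'_surjective V y
    rw [hτπ, hτπ, h.tau2]
  have hcen : W' ≤ Subgroup.center (T ⧸ V) := by
    haveI : Nontrivial (T ⧸ V) := by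
      obtain ⟨x, hx⟩ := hne
      exact ⟨π x, 1, fun e => hx ((QuotientGroup.eq_one_iff x).1 e)⟩
    haveI : Fact (Nat.Prime 2) := ⟨Nat.prime_two⟩
    haveI := (h.isP.to_quotient V).center_nontrivial
    obtain ⟨z, hz, hz1, hzf⟩ := exists_fixed (h.isP.to_quotient V) τ' hτ2 (Subgroup.center (T ⧸ V))
      (center_invariant τ') ((Subgroup.nontrivial_iff_ne_bot _).1 inferInstance)
    refine le_trans (four_le hcard hfpf (Subgroup.center (T ⧸ V) ⊓ W') inf_le_right
      (fun y hy => ⟨center_invariant ρ' y hy.1, hρW y hy.2⟩) ?_) inf_le_left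
    exact fun hbot => hz1 ((Subgroup.eq_bot_iff_forall _).1 hbot z ⟨hz, (hfix z).1 hzf⟩)
  exact ⟨ρ', τ',
    { isP := h.isP.to_quotient V
      card := hcard
      cen := hcen
      sq := by
        rintro _ ⟨x, hx, rfl⟩
        rw [← map_mul]
        exact (QuotientGroup.eq_one_iff (x * x)).2 (h.sq_mem_of_mem_wGroup hx)
      rho_mem := hρW
      rho3 := fun y => by
        obtain ⟨x, rfl⟩ := QuotientGroup.mk'_surjective V y
        rw [hρπ, hρπ, hρπ, h.rho3]
      tau2 := hτ2
      comm := fun y => by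
        obtain ⟨x, rfl⟩ := QuotientGroup.mk'_surjective V y
        rw [hρπ, hτπ, hτπ, hρπ, h.comm]
      fix := hfix
      fpf := hfpf }⟩

theorem comm_engel (h : TV V ρ τ) (x y : T) : Commute x ⁅y, x⁆ := by
  rw [commutatorElement_def]
  exact (h.commute_conj x y).mul_right ((Commute.refl x).inv_right)

/-- If the quotient is nonabelian of order 64, `wGroup` is central. -/
theorem wGroup_central (h : TV V ρ τ) (hW16 : Nat.card ↥h.wGroup = 16)
    (hcW : ∀ x y : T, ⁅x, y⁆ ∈ h.wGroup) (hWV : ∀ w ∈ h.wGroup, ∀ y : T, ⁅w, y⁆ ∈ V)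
    (hex : ∃ x y : T, ⁅x, y⁆ ∉ V) : h.wGroup ≤ Subgroup.center T := by
  classical
  haveI := h.normal
  have hline : ∀ w ∈ h.wGroup, w ∉ V → ∀ x : T, ⁅w, x⁆ = 1 → ∀ w' ∈ h.wGroup, x * w' = w' * x := by
    intro w hw hwV x hwx
    have hρw := h.rho_mem_wGroup hw
    have hvc : ∀ {z : T}, z ∈ h.wGroup → ∀ t, ⁅z, t⁆ ∈ Subgroup.center T := fun hz t => h.cen (hWV _ hz t)
    have hflip : ∀ {z t : T}, ⁅z, t⁆ ∈ Subgroup.center T → ⁅t, z⁆ ∈ Subgroup.center T := fun {z t} hz => by
      rw [← commutatorElement_inv]; exact inv_mem hz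
    -- commutation of `w` with the orbit of `x`
    have e1 : ⁅w, ρ x⁆ = ⁅ρ w, x⁆ := h.lin (hflip (hvc hρw x)) (hflip (hvc hw (ρ x)))
    have e2 : ⁅w, ρ (ρ x)⁆ = ⁅ρ w, ρ x⁆ := h.lin (hflip (hvc hρw _)) (hflip (hvc hw _))
    rw [← map_comm, hwx, map_one, h.rho_sq_eq, comm_inv_right (hvc hw _), comm_mul_right (hvc hw _),
      hwx, one_mul, inv_eq_one] at e2
    rw [e2] at e1
    set S := Subgroup.centralizer ({x} : Set T) ⊓ h.wGroup with hS
    have hwS : w ∈ S := by
      refine ⟨Subgroup.mem_centralizer_singleton_iff.2 ?_, hw⟩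
      exact commutatorElement_eq_one_iff_mul_comm.1 hwx
    have hρwS : ρ w ∈ S := by
      refine ⟨Subgroup.mem_centralizer_singleton_iff.2 ?_, hρw⟩
      exact commutatorElement_eq_one_iff_mul_comm.1 e1.symm
    have hVS : V ≤ S := fun v hv => ⟨Subgroup.mem_centralizer_singleton_iff.2
      (Subgroup.mem_center_iff.1 (h.cen hv) x).symm, h.le_wGroup hv⟩
    set π := QuotientGroup.mk' V with hπ
    have h3 : 3 ≤ Nat.card ↥(S.map π) := by
      have hsub : ({1, π w, π (ρ w)} : Set (T ⧸ V)) ⊆ (S.map π : Set (T ⧸ V)) := by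
        intro z hz
        rcases hz with rfl | rfl | rfl
        exacts [(S.map π).one_mem, ⟨w, hwS, rfl⟩, ⟨_, hρwS, rfl⟩]
      have n1 : π w ≠ 1 := fun e => hwV ((QuotientGroup.eq_one_iff w).1 e)
      have n2 : π (ρ w) ≠ 1 := fun e => hwV (by
        have h1 := h.rho_mem _ (h.rho_mem _ ((QuotientGroup.eq_one_iff (ρ w)).1 e))
        rwa [h.rho3] at h1)
      have n3 : π w ≠ π (ρ w) := fun e => hwV (h.mem_of_twist_mem V h.rho_mem (QuotientGroup.eq.1 e))
      have := Set.ncard_le_ncard hsub (Set.toFinite _)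
      rw [Set.ncard_eq_three.2 ⟨1, π w, π (ρ w), n1.symm, n2.symm, n3, rfl⟩] at this
      rwa [← Nat.card_coe_set_eq] at this
    have hcardS : Nat.card ↥S = Nat.card ↥(S.map π) * 4 := by
      have h1 := (π.subgroupMap S).ker.card_mul_index
      rw [Subgroup.index_ker, MonoidHom.range_eq_top.2 (π.subgroupMap_surjective S), Subgroup.card_top] at h1
      have hk : (π.subgroupMap S).ker = V.subgroupOf S := by
        ext z
        rw [MonoidHom.mem_ker, Subgroup.mem_subgroupOf, Subtype.ext_iff]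
        exact QuotientGroup.eq_one_iff (N := V) (z : T)
      rw [hk, Nat.card_congr (Subgroup.subgroupOfEquivOfLe hVS).toEquiv, h.card] at h1
      rw [← h1, mul_comm]
    have hdvd := Subgroup.card_dvd_of_le (inf_le_right : S ≤ h.wGroup)
    rw [hW16, hcardS] at hdvd
    have hne3 : Nat.card ↥(S.map π) ≠ 3 := fun h3' => by rw [h3'] at hdvd; norm_num at hdvd
    have heq : S = h.wGroup := Subgroup.eq_of_le_of_card_ge inf_le_right (by rw [hW16, hcardS]; omega)
    intro w' hw'
    rw [← heq] at hw'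
    exact (Subgroup.mem_centralizer_singleton_iff.1 hw'.1).symm
  have hcov : ∀ x : T, (∀ w ∈ h.wGroup, x * w = w * x) ∨ ∀ y, ⁅x, y⁆ ∈ V := by
    intro x
    by_cases hx : ∀ y, ⁅x, y⁆ ∈ V
    · exact Or.inr hx
    push Not at hx
    obtain ⟨y, hy⟩ := hx
    refine Or.inl (hline _ (hcW x y) hy x ?_)
    rw [commutatorElement_eq_one_iff_mul_comm]
    have := (h.comm_engel x y).inv_right
    rw [commutatorElement_inv] at this
    exact this.eq.symm
  obtain ⟨x₁, y₁, hxy⟩ := hex
  have hx₁ : ∀ w ∈ h.wGroup, x₁ * w = w * x₁ := (hcov x₁).resolve_right fun hh => hxy (hh y₁)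
  intro w hw
  refine Subgroup.mem_center_iff.2 fun z => ?_
  rcases hcov z with hz | hz
  · exact hz w hw
  · rcases hcov (x₁ * z) with h' | h'
    · have := h' w hw
      rw [mul_assoc, ← mul_assoc w, ← hx₁ w hw, mul_assoc] at this
      exact mul_left_cancel this
    · exfalso
      apply hxy
      have h1 := h' y₁
      rw [comm_mul_left (h.cen (hz y₁))] at h1
      exact (mul_mem_cancel_right (hz y₁)).1 h1

/-- The quotient by `V` cannot be nonabelian of order 64. -/
theorem quotient_not_nonabelian (h : TV V ρ τ) (hW16 : Nat.card ↥h.wGroup = 16)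
    (hT : Nat.card T = 256) (hsq : ∀ x : T, x * x ∈ h.wGroup) (hcW : ∀ x y : T, ⁅x, y⁆ ∈ h.wGroup)
    (hWZ : h.wGroup ≤ Subgroup.center T) (hex : ∃ x y : T, ⁅x, y⁆ ∉ V) : False := by
  classical
  set W := h.wGroup with hWdef
  have hc : ∀ x z : T, ⁅x, z⁆ ∈ Subgroup.center T := fun x z => hWZ (hcW x z)
  have hρW : ∀ x ∈ W, ρ x ∈ W := fun x hx => h.rho_mem_wGroup hx
  have hW1 : W ≠ ⊤ := fun e => by
    rw [e, Subgroup.card_top, hT] at hW16
    omega
  obtain ⟨u, hu⟩ : ∃ u, u ∉ W := by
    by_contra hh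
    push Not at hh
    exact hW1 (eq_top_iff.2 fun x _ => hh x)
  have hclρ : ∀ G : Set T, (∀ g ∈ G, ρ g ∈ Subgroup.closure G) →
      ∀ x ∈ Subgroup.closure G, ρ x ∈ Subgroup.closure G := by
    intro G hG x hx
    induction hx using Subgroup.closure_induction with
    | mem g hg => exact hG g hg
    | one => rw [map_one]; exact one_mem _
    | mul a b _ _ ha hb => rw [map_mul]; exact mul_mem ha hb
    | inv a _ ha => rw [map_inv]; exact inv_mem ha
  set U : Subgroup T := Subgroup.closure ((W : Set T) ∪ {u, ρ u}) with hU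
  have hUtop : U ≠ ⊤ := by
    intro e
    obtain ⟨x, y, hxy⟩ := hex
    apply hxy
    have hcomm : ∀ g ∈ ((W : Set T) ∪ {u, ρ u}), ∀ g' ∈ ((W : Set T) ∪ {u, ρ u}), g * g' = g' * g := by
      simp only [Set.mem_union, SetLike.mem_coe, Set.mem_insert_iff, Set.mem_singleton_iff]
      intro g hg g' hg'
      rcases hg with hg | hg | hg <;> rcases hg' with hg' | hg' | hg'
      all_goals first
        | exact (Subgroup.mem_center_iff.1 (hWZ hg') _)
        | exact (Subgroup.mem_center_iff.1 (hWZ hg) _).symm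
        | rw [hg, hg']
      all_goals first
        | exact (h.commute_rho u).eq
        | exact (h.commute_rho u).eq.symm
    have hall : ∀ a b : T, a * b = b * a := by
      intro a b
      have ha : a ∈ U := e ▸ Subgroup.mem_top a
      have hb : b ∈ U := e ▸ Subgroup.mem_top b
      have h1 : U ≤ Subgroup.centralizer (U : Set T) := by
        rw [hU, Subgroup.centralizer_closure, Subgroup.closure_le]
        exact fun g hg => Subgroup.mem_centralizer_iff.2 fun g' hg' => hcomm g' hg' g hg
      exact (Subgroup.mem_centralizer_iff.1 (h1 ha) b hb).symm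
    rw [commutatorElement_eq_one_iff_mul_comm.2 (hall x y)]
    exact V.one_mem
  have hWU : W ≤ U := fun x hx => Subgroup.subset_closure (Or.inl hx)
  have huU : u ∈ U := Subgroup.subset_closure (Or.inr (Or.inl rfl))
  have hρuU : ρ u ∈ U := Subgroup.subset_closure (Or.inr (Or.inr rfl))
  obtain ⟨y, hy⟩ : ∃ y, y ∉ U := by
    by_contra hh
    push Not at hh
    exact hUtop (eq_top_iff.2 fun x _ => hh x)
  set S : Set T := (W : Set T) ∪ {u, ρ u, y, ρ y} with hS
  set L : Subgroup T := Subgroup.closure S with hL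
  have hUL : U < L := by
    refine lt_of_le_of_ne (Subgroup.closure_mono ?_) fun e => hy ?_
    · rintro g (hg | hg | hg)
      exacts [Or.inl hg, Or.inr (Or.inl hg), Or.inr (Or.inr (Or.inl hg))]
    · rw [e]; exact Subgroup.subset_closure (Or.inr (Or.inr (Or.inr (Or.inl rfl))))
  have hLtop : L = ⊤ := by
    haveI : Fact (Nat.Prime 2) := ⟨Nat.prime_two⟩
    haveI := Subgroup.normal_subgroupOf_iff_le_normalizer hWU |>.2
      (fun g _ => Subgroup.mem_normalizer_iff.2 fun z => ⟨fun hz => by
        rwa [Subgroup.mem_center_iff.1 (hWZ hz) g, mul_inv_cancel_right], fun hz => by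
        have := Subgroup.mem_center_iff.1 (hWZ hz) g⁻¹
        rw [show g⁻¹ * (g * z * g⁻¹) = z * g⁻¹ by group] at this
        rw [mul_right_cancel this]
        exact hz⟩)
    -- `U` has at least three cosets of `W`
    have h3 : 3 ≤ W.relIndex U := by
      show 3 ≤ (W.subgroupOf U).index
      rw [Subgroup.index_eq_card]
      have n1 : (QuotientGroup.mk (⟨u, huU⟩ : ↥U) : ↥U ⧸ W.subgroupOf U) ≠ QuotientGroup.mk 1 := fun e =>
        hu (by have := QuotientGroup.eq.1 e; simpa [Subgroup.mem_subgroupOf] using this)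
      have n2 : (QuotientGroup.mk (⟨ρ u, hρuU⟩ : ↥U) : ↥U ⧸ W.subgroupOf U) ≠ QuotientGroup.mk 1 := fun e =>
        hu (by
          have h1 : ρ u ∈ W := by simpa [Subgroup.mem_subgroupOf] using QuotientGroup.eq.1 e
          have h2 := hρW _ (hρW _ h1)
          rwa [h.rho3] at h2)
      have n3 : (QuotientGroup.mk (⟨u, huU⟩ : ↥U) : ↥U ⧸ W.subgroupOf U) ≠ QuotientGroup.mk ⟨ρ u, hρuU⟩ :=
        fun e => hu (h.mem_of_twist_mem W hρW (by simpa [Subgroup.mem_subgroupOf] using QuotientGroup.eq.1 e))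
      refine le_trans ?_ (Nat.card_le_card_of_injective (Subtype.val :
        ↥({(QuotientGroup.mk 1 : ↥U ⧸ W.subgroupOf U), QuotientGroup.mk ⟨u, huU⟩,
          QuotientGroup.mk ⟨ρ u, hρuU⟩} : Set (↥U ⧸ W.subgroupOf U)) → _) Subtype.val_injective)
      rw [Nat.card_coe_set_eq, Set.ncard_eq_three.2 ⟨_, _, _, n1.symm, n2.symm, n3, rfl⟩]
    have hcU : Nat.card ↥U = 16 * W.relIndex U := by
      rw [← hW16, ← Nat.card_congr (Subgroup.subgroupOfEquivOfLe hWU).toEquiv]
      exact (Subgroup.card_mul_index _).symm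
    obtain ⟨i, hi⟩ := IsPGroup.iff_card.1 (h.isP.to_subgroup U)
    obtain ⟨j, hj⟩ := IsPGroup.iff_card.1 (h.isP.to_subgroup L)
    have hlt : Nat.card ↥U < Nat.card ↥L := by
      refine lt_of_le_of_ne (Nat.le_of_dvd Nat.card_pos (Subgroup.card_dvd_of_le hUL.le)) fun e => ?_
      exact hUL.ne (Subgroup.eq_of_le_of_card_ge hUL.le e.ge)
    have hi6 : 6 ≤ i := by
      by_contra hh
      have : 2 ^ i ≤ 2 ^ 5 := Nat.pow_le_pow_right (by norm_num) (by omega)
      rw [← hi, hcU] at this
      omega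
    have hj7 : 7 ≤ j := by
      rw [hi, hj, Nat.pow_lt_pow_iff_right (by norm_num)] at hlt
      omega
    have hL128 : 128 ≤ Nat.card ↥L := by
      rw [hj]
      exact le_trans (by norm_num) (Nat.pow_le_pow_right (by norm_num : 0 < 2) hj7)
    have hidx := L.card_mul_index
    rw [hT] at hidx
    by_contra hne
    have hne1 : L.index ≠ 1 := fun e => hne (Subgroup.index_eq_one.1 e)
    have hpos : 0 < L.index := Nat.pos_of_ne_zero Subgroup.index_ne_zero_of_finite
    have h2 : L.index = 2 := by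
      have := Nat.mul_le_mul_right L.index hL128
      rw [hidx] at this
      omega
    have hρL : ∀ x ∈ L, ρ x ∈ L := by
      refine hclρ S ?_
      rintro g (hg | hg | hg | hg | hg)
      · exact Subgroup.subset_closure (Or.inl (hρW g hg))
      · rw [show g = u from hg]
        exact Subgroup.subset_closure (Or.inr (Or.inr (Or.inl rfl)))
      · rw [show g = ρ u from hg, h.rho_sq_eq]
        exact inv_mem (mul_mem (Subgroup.subset_closure (Or.inr (Or.inl rfl)))
          (Subgroup.subset_closure (Or.inr (Or.inr (Or.inl rfl)))))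
      · rw [show g = y from hg]
        exact Subgroup.subset_closure (Or.inr (Or.inr (Or.inr (Or.inr rfl))))
      · rw [show g = ρ y from hg, h.rho_sq_eq]
        exact inv_mem (mul_mem (Subgroup.subset_closure (Or.inr (Or.inr (Or.inr (Or.inl rfl)))))
          (Subgroup.subset_closure (Or.inr (Or.inr (Or.inr (Or.inr rfl))))))
    obtain ⟨z, hz⟩ : ∃ z, z ∉ L := by
      by_contra hh
      push Not at hh
      exact hne (eq_top_iff.2 fun x _ => hh x)
    have hρz : ρ z ∉ L := fun e => hz (by
      have := hρL _ (hρL _ e)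
      rwa [h.rho3] at this)
    refine hz (h.mem_of_twist_mem L hρL ?_)
    rw [Subgroup.mul_mem_iff_of_index_two h2, inv_mem_iff]
    exact ⟨fun e => absurd e hz, fun e => absurd e hρz⟩
  -- all commutators lie in the group of order at most four spanned by `a = ⁅u, y⁆` and `ρ a`
  set a := ⁅u, y⁆ with ha
  have ha2 : a * a = 1 := by
    rw [ha, ← comm_mul_left (hc _ _)]
    exact commutatorElement_eq_one_iff_mul_comm.2 (Subgroup.mem_center_iff.1 (hWZ (hsq u)) y).symm
  set b := ρ a with hb
  have hb2 : b * b = 1 := by rw [hb, ← map_mul, ha2, map_one]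
  have hbc : b ∈ Subgroup.center T := center_invariant ρ a (hc u y)
  have hab : a * b = b * a := Subgroup.mem_center_iff.1 hbc a
  let A : Subgroup T :=
    { carrier := {1, a, b, a * b}
      one_mem' := Or.inl rfl
      mul_mem' := by
        have e1 : a * (a * b) = b := by rw [← mul_assoc, ha2, one_mul]
        have e2 : b * (a * b) = a := by rw [hab, ← mul_assoc, hb2, one_mul]
        have e3 : a * b * a = b := by rw [hab, mul_assoc, ha2, mul_one]
        have e4 : a * b * b = a := by rw [mul_assoc, hb2, mul_one]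
        have e5 : a * b * (a * b) = 1 := by rw [← mul_assoc, e3, hb2]
        rintro p q (rfl | rfl | rfl | rfl) (rfl | rfl | rfl | rfl) <;>
          simp [ha2, hb2, ← hab, e1, e2, e3, e4, e5]
      inv_mem' := by
        rintro p (rfl | rfl | rfl | rfl)
        · simp
        · exact Or.inr (Or.inl (inv_eq_of_mul_eq_one_right ha2))
        · exact Or.inr (Or.inr (Or.inl (inv_eq_of_mul_eq_one_right hb2)))
        · refine Or.inr (Or.inr (Or.inr ?_))
          rw [mul_inv_rev, inv_eq_of_mul_eq_one_right ha2, inv_eq_of_mul_eq_one_right hb2, hab]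
          rfl }
  have hAZ : A ≤ Subgroup.center T := by
    intro g hg
    rcases hg with rfl | rfl | rfl | rfl
    exacts [one_mem _, hc u y, hbc, mul_mem (hc u y) hbc]
  have hAcard : Nat.card ↥A ≤ 4 := by
    show Nat.card ↥({1, a, b, a * b} : Set T) ≤ 4
    rw [Nat.card_coe_set_eq]
    exact le_trans (Set.ncard_insert_le _ _) (Nat.succ_le_succ (le_trans (Set.ncard_insert_le _ _)
      (Nat.succ_le_succ (le_trans (Set.ncard_insert_le _ _) (Nat.succ_le_succ (Set.ncard_singleton _).le)))))
  obtain ⟨o1, o2, o3⟩ := h.orbit_comm (x := u) (y := y) (hc u) (hc y)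
  have hρρ : ρ (ρ a) = (a * b)⁻¹ := h.rho_sq_eq a
  have gA : a ∈ A ∧ b ∈ A ∧ ρ (ρ a) ∈ A := by
    refine ⟨Or.inr (Or.inl rfl), Or.inr (Or.inr (Or.inl rfl)), ?_⟩
    rw [hρρ]
    exact A.inv_mem (Or.inr (Or.inr (Or.inr rfl)))
  have hflip : ∀ {p q : T}, ⁅p, q⁆ ∈ A → ⁅q, p⁆ ∈ A := fun {p q} hpq => by
    rw [← commutatorElement_inv]; exact A.inv_mem hpq
  have hSS : ∀ p ∈ S, ∀ q ∈ S, ⁅p, q⁆ ∈ A := by
    have hWc : ∀ p ∈ W, ∀ q, ⁅p, q⁆ ∈ A := fun p hp q => by
      rw [commutatorElement_eq_one_iff_mul_comm.2 (Subgroup.mem_center_iff.1 (hWZ hp) q).symm]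
      exact A.one_mem
    have hone : ∀ p q : T, p * q = q * p → ⁅p, q⁆ ∈ A := fun p q e => by
      rw [commutatorElement_eq_one_iff_mul_comm.2 e]; exact A.one_mem
    have huy : ⁅u, y⁆ ∈ A := ha ▸ gA.1
    have h1 : ⁅ρ u, y⁆ ∈ A := by rw [o1, ← ha]; exact gA.2.2
    have h2 : ⁅u, ρ y⁆ ∈ A := by rw [o2, ← ha]; exact gA.2.2
    have h3 : ⁅ρ u, ρ y⁆ ∈ A := by rw [o3, ← ha]; exact gA.2.1
    intro p hp q hq
    simp only [hS, Set.mem_union, SetLike.mem_coe, Set.mem_insert_iff, Set.mem_singleton_iff] at hp hq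
    rcases hp with hp | hp | hp | hp | hp <;> rcases hq with hq | hq | hq | hq | hq
    all_goals first
      | exact hWc _ hp _
      | exact hflip (hWc _ hq _)
      | rw [hp, hq]
    all_goals first
      | exact hone _ _ rfl
      | exact hone _ _ (h.commute_rho u).eq
      | exact hone _ _ (h.commute_rho u).eq.symm
      | exact hone _ _ (h.commute_rho y).eq
      | exact hone _ _ (h.commute_rho y).eq.symm
      | assumption
      | exact hflip huy
      | exact hflip h1
      | exact hflip h2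
      | exact hflip h3
  have hall : ∀ p q : T, ⁅p, q⁆ ∈ A := by
    have h1 : ∀ p ∈ S, ∀ q : T, ⁅p, q⁆ ∈ A := fun p hp q => by
      have : L ≤ commIn p A hAZ := by rw [hL, Subgroup.closure_le]; exact fun q hq => hSS p hp q hq
      exact this (hLtop ▸ Subgroup.mem_top q)
    intro p q
    have : L ≤ commIn q A hAZ := by
      rw [hL, Subgroup.closure_le]; exact fun p hp => hflip (h1 p hp q)
    exact hflip (this (hLtop ▸ Subgroup.mem_top p))
  have hT' : _root_.commutator T ≤ A := by
    rw [commutator_def]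
    exact Subgroup.commutator_le.2 fun p _ q _ => hall p q
  have hinv : ∀ σ : MulAut T, ∀ z ∈ _root_.commutator T, σ z ∈ _root_.commutator T := by
    intro σ z hz
    rw [commutator_def] at hz ⊢
    have h1 : σ.toMonoidHom z ∈ Subgroup.map σ.toMonoidHom ⁅(⊤ : Subgroup T), (⊤ : Subgroup T)⁆ := ⟨z, hz, rfl⟩
    rw [Subgroup.map_commutator] at h1
    exact Subgroup.commutator_mono le_top le_top h1
  obtain ⟨x₀, y₀, hxy⟩ := hex
  have hne : _root_.commutator T ≠ ⊥ := by
    intro e
    apply hxy
    have hmem : ⁅x₀, y₀⁆ ∈ _root_.commutator T := by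
      rw [commutator_def]
      exact Subgroup.commutator_mem_commutator (Subgroup.mem_top _) (Subgroup.mem_top _)
    rw [(Subgroup.eq_bot_iff_forall _).1 e _ hmem]
    exact V.one_mem
  have hVA : V ≤ A := (h.le_of_invariant _ (hinv ρ) (hinv τ) hne).trans hT'
  have : V = A := Subgroup.eq_of_le_of_card_ge hVA (by rw [h.card]; exact hAcard)
  exact hxy (this ▸ hall x₀ y₀)

end TV

/-- A nonabelian group of this kind has order 64, and its commutators and squares lie in `V`. -/
theorem nonabelian : ∀ (n : ℕ) {T : Type u} [Group T] [Finite T] (V : Subgroup T) (ρ τ : MulAut T),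
    Nat.card T = n → TV V ρ τ → (¬ ∀ x y : T, x * y = y * x) →
      Nat.card T = 64 ∧ (∀ x y : T, ⁅x, y⁆ ∈ V) ∧ ∀ x : T, x * x ∈ V := by
  intro n
  induction n using Nat.strong_induction_on with
  | _ n ih =>
    intro T _ _ V ρ τ hn h hna
    haveI := h.normal
    have hne : ∃ x, x ∉ V := by
      by_contra hh
      push Not at hh
      exact hna fun x y => (Subgroup.mem_center_iff.1 (h.cen (hh x)) y).symm
    obtain ⟨ρ', τ', h'⟩ := h.exists_quotient hne
    have hcard : Nat.card T = Nat.card (T ⧸ V) * 4 := by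
      rw [← h.card]; exact Subgroup.card_eq_card_quotient_mul_card_subgroup V
    have hlt : Nat.card (T ⧸ V) < n := by
      have : 0 < Nat.card (T ⧸ V) := Nat.card_pos
      omega
    set π := QuotientGroup.mk' V with hπ
    have hπ1 : ∀ {z : T}, π z = 1 ↔ z ∈ V := fun {z} => QuotientGroup.eq_one_iff z
    have hmemW : ∀ {z : T}, π z ∈ h.wGroup.map π ↔ z ∈ h.wGroup := by
      intro z
      refine ⟨?_, fun hz => ⟨z, hz, rfl⟩⟩
      rintro ⟨w, hw, e⟩
      have := h.wGroup.mul_mem hw (h.le_wGroup (QuotientGroup.eq.1 e))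
      rwa [mul_inv_cancel_left] at this
    by_cases hab : ∀ a b : T ⧸ V, a * b = b * a
    · have hcV : ∀ x y : T, ⁅x, y⁆ ∈ V := fun x y => by
        rw [← hπ1, map_commutatorElement, commutatorElement_eq_one_iff_mul_comm]
        exact hab _ _
      rcases h'.abelian_cases hab with hinv | ⟨h16, hexp⟩
      · exfalso
        apply hna
        refine h.comm_of_index_center ?_
        -- the preimage of the squares is central of index four
        let sqh : T ⧸ V →* T ⧸ V :=
          { toFun := fun a => a * a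
            map_one' := one_mul 1
            map_mul' := fun a b => by
              rw [show a * b * (a * b) = a * (b * a) * b by group, hab b a]; group }
        have hker : sqh.ker = h.wGroup.map π := by
          refine le_antisymm (fun a ha => hinv a ha) fun a ha => h'.sq a ha
        have hle : sqh.range.comap π ≤ Subgroup.center T := by
          rintro z ⟨a, ha⟩
          obtain ⟨x, rfl⟩ := QuotientGroup.mk'_surjective V a
          have hz : (x * x)⁻¹ * z ∈ V := QuotientGroup.eq.1 ha
          refine Subgroup.mem_center_iff.2 fun y => ?_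
          have hc : (x * x) * y = y * (x * x) := by
            rw [← commutatorElement_eq_one_iff_mul_comm, comm_mul_left (h.cen (hcV x y))]
            exact h.sq _ (hcV x y)
          rw [show z = (x * x) * ((x * x)⁻¹ * z) by group, ← mul_assoc, ← hc, mul_assoc, mul_assoc,
            Subgroup.mem_center_iff.1 (h.cen hz) y]
          group
        refine le_trans (Nat.le_of_dvd ?_ (Subgroup.index_dvd_of_le hle)) ?_
        · exact Nat.pos_of_ne_zero Subgroup.index_ne_zero_of_finite
        rw [Subgroup.index_comap_of_surjective _ (QuotientGroup.mk'_surjective V)]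
        have h1 := sqh.range.card_mul_index
        have h2 := sqh.ker.card_mul_index
        rw [Subgroup.index_ker, hker, h'.card] at h2
        have h3 : 0 < Nat.card ↥sqh.range := Nat.card_pos
        have : Nat.card ↥sqh.range * sqh.range.index = Nat.card ↥sqh.range * 4 := by
          rw [h1, mul_comm _ 4, h2]
        exact (Nat.eq_of_mul_eq_mul_left h3 this).le
      · refine ⟨by omega, hcV, fun x => ?_⟩
        rw [← hπ1, map_mul]
        exact hexp _
    · exfalso
      obtain ⟨h64, hcm, hsq⟩ := ih _ hlt (h.wGroup.map π) ρ' τ' rfl h' hab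
      have hcW : ∀ x y : T, ⁅x, y⁆ ∈ h.wGroup := fun x y => by
        rw [← hmemW, map_commutatorElement]; exact hcm _ _
      have hsW : ∀ x : T, x * x ∈ h.wGroup := fun x => by
        rw [← hmemW, map_mul]; exact hsq _
      have hWV : ∀ w ∈ h.wGroup, ∀ y : T, ⁅w, y⁆ ∈ V := fun w hw y => by
        rw [← hπ1, map_commutatorElement, commutatorElement_eq_one_iff_mul_comm]
        exact (Subgroup.mem_center_iff.1 (h'.cen (hmemW.2 hw)) _).symm
      have hex : ∃ x y : T, ⁅x, y⁆ ∉ V := by
        by_contra hh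
        push Not at hh
        refine hab fun a b => ?_
        obtain ⟨x, rfl⟩ := QuotientGroup.mk'_surjective V a
        obtain ⟨y, rfl⟩ := QuotientGroup.mk'_surjective V b
        rw [← commutatorElement_eq_one_iff_mul_comm, ← map_commutatorElement]
        exact hπ1.2 (hh x y)
      have hW16 := h.card_wGroup_eq hne
      exact h.quotient_not_nonabelian hW16 (by omega) hsW hcW (h.wGroup_central hW16 hcW hWV hex) hex

end CfsgLib.LocalEven.FixedFours
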