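import Cfsg.Agent.Lib.LocalEven.FixedFours.Calculus

/-!
The structure theorem: such a group is abelian, or has order 64 with commutators and squares in the
four-group.
-/

set_option autoImplicit false

namespace CfsgLib.LocalEven.FixedFours

open scoped commutatorElement

variable {T : Type*} [Group T] [Finite T]

namespace TV

variable {V : Subgroup T} {ρ τ : MulAut T}

/-- The elements moved inside their coset of `V` by `τ`. -/
def wGroup (h : TV V ρ τ) : Subgroup T where
  carrier := {x | x⁻¹ * τ x ∈ V}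
  one_mem' := by simp
  mul_mem' := fun {a b} ha hb => by
    show (a * b)⁻¹ * τ (a * b) ∈ V
    have hc := Subgroup.mem_center_iff.1 (h.cen ha) b⁻¹
    rw [map_mul, show (a * b)⁻¹ * (τ a * τ b) = b⁻¹ * (a⁻¹ * τ a) * τ b by group, hc, mul_assoc]
    exact V.mul_mem ha hb
  inv_mem' := fun {a} ha => by
    show a⁻¹⁻¹ * τ a⁻¹ ∈ V
    have hc := Subgroup.mem_center_iff.1 (h.cen (V.inv_mem ha)) a
    rw [map_inv, inv_inv, show a * (τ a)⁻¹ = a * (a⁻¹ * τ a)⁻¹ * a⁻¹ by group, hc, mul_inv_cancel_right]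
    exact V.inv_mem ha

theorem mem_wGroup (h : TV V ρ τ) {x : T} : x ∈ h.wGroup ↔ x⁻¹ * τ x ∈ V := Iff.rfl

theorem le_wGroup (h : TV V ρ τ) : V ≤ h.wGroup := fun v hv => by
  rw [mem_wGroup, (h.fix v).2 hv, inv_mul_cancel]; exact V.one_mem

theorem rho_mem_wGroup (h : TV V ρ τ) {x : T} (hx : x ∈ h.wGroup) : ρ x ∈ h.wGroup := by
  rw [mem_wGroup, h.comm, ← map_inv, ← map_mul]
  exact h.rho_mem _ hx

theorem tau_mem_wGroup (h : TV V ρ τ) {x : T} (hx : x ∈ h.wGroup) : τ x ∈ h.wGroup := by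
  rw [mem_wGroup, h.tau2]
  have := V.inv_mem hx
  rwa [mul_inv_rev, inv_inv] at this

theorem sq_mem_of_mem_wGroup (h : TV V ρ τ) {x : T} (hx : x ∈ h.wGroup) : x * x ∈ V := by
  refine (h.fix _).1 ?_
  have hc := Subgroup.mem_center_iff.1 (h.cen hx) x
  have e : τ x = x * (x⁻¹ * τ x) := by group
  rw [map_mul, e]
  calc x * (x⁻¹ * τ x) * (x * (x⁻¹ * τ x)) = x * ((x⁻¹ * τ x) * x) * (x⁻¹ * τ x) := by group
    _ = x * x * ((x⁻¹ * τ x) * (x⁻¹ * τ x)) := by rw [← hc]; group
    _ = x * x := by rw [h.sq _ hx, mul_one]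

theorem normal (h : TV V ρ τ) : V.Normal := ⟨fun v hv g => by
  rwa [Subgroup.mem_center_iff.1 (h.cen hv) g, mul_inv_cancel_right]⟩

theorem card_wGroup_eq (h : TV V ρ τ) (hne : ∃ x, x ∉ V) : Nat.card ↥h.wGroup = 16 := by
  classical
  haveI := h.normal
  -- a point of the quotient fixed by `τ`
  have hex : ∃ w ∈ h.wGroup, w ∉ V := by
    obtain ⟨x, hx⟩ := hne
    have hmap : V.map τ.toMonoidHom = V := by
      refine le_antisymm ?_ ?_
      · rintro _ ⟨v, hv, rfl⟩
        show τ v ∈ V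
        rwa [(h.fix v).2 hv]
      · intro v hv
        exact ⟨v, hv, (h.fix v).2 hv⟩
    set τ' : MulAut (T ⧸ V) := QuotientGroup.congr V V τ hmap with hτ'
    have hτ'2 : ∀ y, τ' (τ' y) = y := fun y => by
      obtain ⟨z, rfl⟩ := QuotientGroup.mk_surjective y
      exact congrArg QuotientGroup.mk (h.tau2 z)
    have hne' : (⊤ : Subgroup (T ⧸ V)) ≠ ⊥ := fun e => hx ((QuotientGroup.eq_one_iff x).1
      ((Subgroup.eq_bot_iff_forall _).1 e _ (Subgroup.mem_top _)))
    obtain ⟨y, -, hy1, hy⟩ := exists_fixed (h.isP.to_quotient V) τ' hτ'2 ⊤ (fun _ _ => Subgroup.mem_top _) hne'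
    obtain ⟨z, rfl⟩ := QuotientGroup.mk_surjective y
    exact ⟨z, QuotientGroup.eq.1 (show (QuotientGroup.mk z : T ⧸ V) = QuotientGroup.mk (τ z) from hy.symm),
      fun hz => hy1 ((QuotientGroup.eq_one_iff z).2 hz)⟩
  let ψ : ↥h.wGroup →* ↥V :=
    { toFun := fun w => ⟨(w : T)⁻¹ * τ w, w.2⟩
      map_one' := Subtype.ext (by simp)
      map_mul' := fun a b => Subtype.ext (by
        show ((a : T) * b)⁻¹ * τ (a * b) = ((a : T)⁻¹ * τ a) * ((b : T)⁻¹ * τ b)
        have hc := Subgroup.mem_center_iff.1 (h.cen a.2) (b : T)⁻¹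
        rw [map_mul, show ((a : T) * b)⁻¹ * (τ a * τ b) = (b : T)⁻¹ * ((a : T)⁻¹ * τ a) * τ b by group,
          hc, mul_assoc]) }
  have hker : ψ.ker = V.subgroupOf h.wGroup := by
    ext w
    rw [MonoidHom.mem_ker, Subgroup.mem_subgroupOf, ← h.fix, Subtype.ext_iff]
    show (w : T)⁻¹ * τ w = 1 ↔ _
    rw [inv_mul_eq_one, eq_comm]
  have hrange : ψ.range = ⊤ := by
    refine eq_top_iff.2 fun v _ => ?_
    have hle := four_le h.card h.fpf (ψ.range.map V.subtype) (Subgroup.map_subtype_le _) ?_ ?_ v.2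
    · obtain ⟨v', hv', e⟩ := hle
      exact (Subtype.ext e : v' = v) ▸ hv'
    · rintro _ ⟨v', ⟨w, rfl⟩, rfl⟩
      refine ⟨_, ⟨⟨ρ w, h.rho_mem_wGroup w.2⟩, rfl⟩, ?_⟩
      show (ρ (w : T))⁻¹ * τ (ρ w) = ρ ((w : T)⁻¹ * τ w)
      rw [map_mul, map_inv, h.comm]
    · intro hbot
      obtain ⟨w, hw, hwV⟩ := hex
      have h1 : ((ψ ⟨w, hw⟩ : ↥V) : T) = 1 :=
        (Subgroup.eq_bot_iff_forall _).1 hbot _ ⟨_, ⟨⟨w, hw⟩, rfl⟩, rfl⟩
      exact hwV ((h.fix w).1 (inv_mul_eq_one.1 h1).symm)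
  have := ψ.ker.card_mul_index
  rw [Subgroup.index_ker, hrange, Subgroup.card_top, h.card, hker,
    Nat.card_congr (Subgroup.subgroupOfEquivOfLe h.le_wGroup).toEquiv, h.card] at this
  omega

/-- An abelian group of this kind has all involutions in `V` or is elementary abelian of order 16. -/
theorem abelian_cases (h : TV V ρ τ) (hab : ∀ x y : T, x * y = y * x) :
    (∀ x : T, x * x = 1 → x ∈ V) ∨ (Nat.card T = 16 ∧ ∀ x : T, x * x = 1) := by
  classical
  by_cases hall : ∀ x : T, x * x = 1 → x ∈ V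
  · exact Or.inl hall
  push Not at hall
  obtain ⟨u, hu, huV⟩ := hall
  right
  have hfix : ∀ x, x * τ x ∈ V := fun x => (h.fix _).1 (by rw [map_mul, h.tau2, hab])
  -- every element of `V` is the product of an involution with its image
  let I : Subgroup T :=
    { carrier := {v | ∃ w : T, w * w = 1 ∧ w * τ w = v}
      one_mem' := ⟨1, one_mul 1, by simp⟩
      mul_mem' := by
        rintro a b ⟨p, hp, rfl⟩ ⟨q, hq, rfl⟩
        refine ⟨p * q, ?_, ?_⟩
        · rw [show p * q * (p * q) = p * (q * p) * q by group, hab q p,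
            show p * (p * q) * q = (p * p) * (q * q) by group, hp, hq, one_mul]
        · rw [map_mul, show p * q * (τ p * τ q) = p * (q * τ p) * τ q by group, hab q (τ p)]
          group
      inv_mem' := by
        rintro a ⟨p, hp, rfl⟩
        refine ⟨p, hp, eq_inv_of_mul_eq_one_left ?_⟩
        exact h.sq _ (hfix p) }
  have hI : V ≤ I := by
    refine four_le h.card h.fpf I ?_ ?_ ?_
    · rintro _ ⟨p, -, rfl⟩; exact hfix p
    · rintro _ ⟨p, hp, rfl⟩
      exact ⟨ρ p, by rw [← map_mul, hp, map_one], by rw [map_mul, h.rho_tau]⟩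
    · intro hbot
      have h1 : u * τ u = 1 := (Subgroup.eq_bot_iff_forall _).1 hbot _ ⟨u, hu, rfl⟩
      refine huV ((h.fix u).1 ?_)
      exact (eq_inv_of_mul_eq_one_right h1).trans (inv_eq_of_mul_eq_one_right hu)
  have h4 : ∀ y : T, (y * y) * (y * y) = 1 → y * y = 1 := by
    intro y hy
    by_contra hne
    set v := y * τ y with hv
    have hτy : τ y = y⁻¹ * v := by rw [hv]; group
    have hyy : y * y ∈ V := by
      refine (h.fix _).1 ?_
      rw [map_mul, hτy, show y⁻¹ * v * (y⁻¹ * v) = y⁻¹ * (v * y⁻¹) * v by group, hab v,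
        show y⁻¹ * (y⁻¹ * v) * v = (y * y)⁻¹ * (v * v) by group, h.sq v (hfix y), mul_one,
        inv_eq_of_mul_eq_one_right hy]
    obtain ⟨w, hw, hwv⟩ := hI (V.mul_mem hyy (hfix y))
    have hw' : w⁻¹ = w := inv_eq_of_mul_eq_one_right hw
    have hτw : τ w = w * (y * y * v) := by rw [← hwv, ← mul_assoc, hw, one_mul]
    have hyw : y * w ∈ V := by
      refine (h.fix _).1 ?_
      rw [map_mul, hτy, hτw, hab y⁻¹ v, show v * y⁻¹ * (w * (y * y * v)) = v * (y⁻¹ * w) * (y * y * v) by group,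
        hab y⁻¹ w, show v * (w * y⁻¹) * (y * y * v) = (v * (w * y)) * v by group, hab v (w * y),
        mul_assoc, h.sq v (hfix y), mul_one, hab]
    have := h.sq _ hyw
    rw [show y * w * (y * w) = y * (w * y) * w by group, hab w y,
      show y * (y * w) * w = (y * y) * (w * w) by group, hw, mul_one] at this
    exact hne this
  have hexp : ∀ x : T, x * x = 1 := by
    intro x
    obtain ⟨k, hk⟩ := h.isP x
    induction k generalizing x with
    | zero => rw [pow_zero, pow_one] at hk; rw [hk, one_mul]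
    | succ k ih => exact h4 x (ih (x * x) (by rw [← pow_two, ← pow_mul, ← pow_succ', hk]))
  refine ⟨?_, hexp⟩
  have hW : h.wGroup = ⊤ := eq_top_iff.2 fun x _ => by
    show x⁻¹ * τ x ∈ V
    rw [inv_eq_of_mul_eq_one_right (hexp x)]
    exact hfix x
  rw [← Subgroup.card_top (G := T), ← hW]
  exact h.card_wGroup_eq ⟨u, huV⟩

/-- A group of this kind with centre of index at most four is abelian. -/
theorem comm_of_index_center (h : TV V ρ τ) (h4 : (Subgroup.center T).index ≤ 4) :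
    ∀ x y : T, x * y = y * x := by
  suffices hz : ∀ u : T, u ∈ Subgroup.center T from fun x y => Subgroup.mem_center_iff.1 (hz y) x
  intro u
  by_contra hu
  set Z := Subgroup.center T with hZ
  set C := Subgroup.centralizer ({u} : Set T) with hC
  have hρZ : ∀ z ∈ Z, ρ z ∈ Z := fun z hz => Subgroup.mem_center_iff.2 fun g => by
    obtain ⟨g, rfl⟩ := MulEquiv.surjective ρ g
    rw [← map_mul, ← map_mul, Subgroup.mem_center_iff.1 hz]
  have hZC : Z ≤ C := fun z hz => by
    rw [hC, Subgroup.mem_centralizer_singleton_iff]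
    exact (Subgroup.mem_center_iff.1 hz u).symm
  have huC : u ∈ C := by rw [hC, Subgroup.mem_centralizer_singleton_iff]
  have hρu : ρ u ∈ C := by
    rw [hC, Subgroup.mem_centralizer_singleton_iff]; exact (h.commute_rho u).eq.symm
  set π := QuotientGroup.mk' Z with hπ
  have h3 : 3 ≤ Nat.card ↥(C.map π) := by
    have hsub : ({1, π u, π (ρ u)} : Set (T ⧸ Z)) ⊆ (C.map π : Set (T ⧸ Z)) := by
      intro z hz
      rcases hz with rfl | rfl | rfl
      exacts [(C.map π).one_mem, ⟨u, huC, rfl⟩, ⟨_, hρu, rfl⟩]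
    have n1 : π u ≠ 1 := fun e => hu ((QuotientGroup.eq_one_iff u).1 e)
    have n2 : π (ρ u) ≠ 1 := fun e => hu (by
      have h1 := hρZ _ (hρZ _ ((QuotientGroup.eq_one_iff (ρ u)).1 e))
      rwa [h.rho3] at h1)
    have n3 : π u ≠ π (ρ u) := fun e => hu (h.mem_of_twist_mem Z hρZ (QuotientGroup.eq.1 e))
    have := Set.ncard_le_ncard hsub (Set.toFinite _)
    rw [Set.ncard_eq_three.2 ⟨1, π u, π (ρ u), n1.symm, n2.symm, n3, rfl⟩] at this
    rwa [← Nat.card_coe_set_eq] at this
  have hidx := (C.map π).card_mul_index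
  rw [← Subgroup.index_eq_card] at hidx
  have hpos : 0 < (C.map π).index := Nat.pos_of_ne_zero Subgroup.index_ne_zero_of_finite
  have htop : C.map π = ⊤ := by
    rw [← Subgroup.index_eq_one]
    by_contra h1
    have : 3 * 2 ≤ Nat.card ↥(C.map π) * (C.map π).index := Nat.mul_le_mul h3 (by omega)
    omega
  apply hu
  refine Subgroup.mem_center_iff.2 fun g => ?_
  obtain ⟨c, hc, e⟩ : π g ∈ C.map π := htop ▸ Subgroup.mem_top _
  have hgC : g ∈ C := by
    have := C.mul_mem hc (hZC (QuotientGroup.eq.1 e))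
    rwa [mul_inv_cancel_left] at this
  rw [hC, Subgroup.mem_centralizer_singleton_iff] at hgC
  exact hgC

end TV

end CfsgLib.LocalEven.FixedFours
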