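import Cfsg.Agent.Lib.LocalEven.FixedFours.Main
import Cfsg.Agent.Lib.InvChar.SylowThree

/-!
The nonabelian group with an involution outside the four-group is unitriangular over four elements.
-/

set_option autoImplicit false

namespace CfsgLib.LocalEven.FixedFours

open scoped commutatorElement
open CfsgLib.InvCharThree

variable {T : Type*} [Group T] [Finite T] {F : Type} [Field F]

omit [Finite T] in
/-- The homomorphism from the additive group of four elements given by a pair. -/
theorem exists_add_hom {ω : F} (hall : ∀ t : F, t = 0 ∨ t = 1 ∨ t = ω ∨ t = 1 + ω)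
    (h2 : ∀ t : F, t + t = 0) (hω0 : ω ≠ 0) (hω1 : ω ≠ 1) (p q : T) (hp : p * p = 1) (hq : q * q = 1)
    (hpq : p * q = q * p) :
    ∃ f : F → T, f 1 = p ∧ f ω = q ∧ (∀ s t, f (s + t) = f s * f t) ∧
      ∀ t, f t = 1 ∨ f t = p ∨ f t = q ∨ f t = p * q := by
  classical
  refine ⟨fun t => if t = 0 then 1 else if t = 1 then p else if t = ω then q else p * q,
    by simp, by simp [hω0, hω1], ?_, fun t => ?_⟩
  · have n1 : (1 : F) + ω ≠ 0 := fun e => hω1 (by
      calc ω = (1 + 1) + ω := by rw [h2, zero_add]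
        _ = 1 := by rw [add_assoc, e, add_zero])
    have n2 : (1 : F) + ω ≠ 1 := fun e => hω0 (by simpa using e)
    have n3 : (1 : F) + ω ≠ ω := by simp
    have e0 : (1 : F) + 1 = 0 := h2 1
    have e1 : ω + ω = 0 := h2 ω
    have e2 : ω + 1 = 1 + ω := add_comm _ _
    have e3 : (1 : F) + (1 + ω) = ω := by rw [← add_assoc, e0, zero_add]
    have e4 : ω + (1 + ω) = 1 := by rw [add_left_comm, e1, add_zero]
    have e5 : (1 : F) + ω + 1 = ω := by rw [add_comm, e3]
    have e6 : (1 : F) + ω + ω = 1 := by rw [add_comm, e4]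
    have e7 : (1 : F) + ω + (1 + ω) = 0 := h2 _
    have g1 : p * (p * q) = q := by rw [← mul_assoc, hp, one_mul]
    have g2 : q * (p * q) = p := by rw [hpq, ← mul_assoc, hq, one_mul]
    have g3 : p * q * p = q := by rw [hpq, mul_assoc, hp, mul_one]
    have g4 : p * q * q = p := by rw [mul_assoc, hq, mul_one]
    have g5 : p * q * (p * q) = 1 := by rw [← mul_assoc, g3, hq]
    intro s t
    rcases hall s with rfl | rfl | rfl | rfl <;> rcases hall t with rfl | rfl | rfl | rfl <;>
      simp [hω0, hω1, n1, n2, n3, e0, e1, e2, e3, e4, e5, e6, e7, hp, hq, hpq.symm, g1, g2, g3, g4, g5]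
  · dsimp only; split_ifs <;> simp

namespace TV

variable {V : Subgroup T} {ρ τ : MulAut T}

theorem exists_tau_pair (h : TV V ρ τ) (hna : ¬ ∀ x y : T, x * y = y * x) (h64 : Nat.card T = 64)
    (hcV : ∀ x y : T, ⁅x, y⁆ ∈ V) (hsV : ∀ x : T, x * x ∈ V) {x : T} (hx : x * x = 1) (hxV : x ∉ V) :
    ⁅x, τ x⁆ ≠ 1 := by
  classical
  intro hcom
  apply hna
  have hcz : ∀ a b : T, ⁅a, b⁆ ∈ Subgroup.center T := fun a b => h.cen (hcV a b)
  have hc' := commutatorElement_eq_one_iff_mul_comm.1 hcom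
  have hxW : x ∈ h.wGroup := by
    rw [mem_wGroup, inv_eq_of_mul_eq_one_right hx]
    exact (h.fix _).1 (by rw [map_mul, h.tau2, hc'])
  haveI := h.normal
  set π := QuotientGroup.mk' V with hπ
  set E : Subgroup T := Subgroup.closure ((V : Set T) ∪ {x, ρ x}) with hE
  have hVE : V ≤ E := fun v hv => Subgroup.subset_closure (Or.inl hv)
  have hxE : x ∈ E := Subgroup.subset_closure (Or.inr (Or.inl rfl))
  have hρxE : ρ x ∈ E := Subgroup.subset_closure (Or.inr (Or.inr rfl))
  have hEW : E ≤ h.wGroup := by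
    rw [hE, Subgroup.closure_le]
    rintro g (hg | hg | hg)
    · exact h.le_wGroup hg
    · rw [show g = x from hg]; exact hxW
    · rw [show g = ρ x from hg]; exact h.rho_mem_wGroup hxW
  have hW16 := h.card_wGroup_eq ⟨x, hxV⟩
  have hrel : 3 ≤ Nat.card ↥(E.map π) := by
    have hsub : ({1, π x, π (ρ x)} : Set (T ⧸ V)) ⊆ (E.map π : Set (T ⧸ V)) := by
      intro z hz
      rcases hz with rfl | rfl | rfl
      exacts [(E.map π).one_mem, ⟨x, hxE, rfl⟩, ⟨_, hρxE, rfl⟩]
    have n1 : π x ≠ 1 := fun e => hxV ((QuotientGroup.eq_one_iff x).1 e)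
    have n2 : π (ρ x) ≠ 1 := fun e => hxV (by
      have h1 := h.rho_mem _ (h.rho_mem _ ((QuotientGroup.eq_one_iff (ρ x)).1 e))
      rwa [h.rho3] at h1)
    have n3 : π x ≠ π (ρ x) := fun e => hxV (h.mem_of_twist_mem V h.rho_mem (QuotientGroup.eq.1 e))
    have := Set.ncard_le_ncard hsub (Set.toFinite _)
    rw [Set.ncard_eq_three.2 ⟨1, π x, π (ρ x), n1.symm, n2.symm, n3, rfl⟩] at this
    rwa [← Nat.card_coe_set_eq] at this
  have hcardE : Nat.card ↥E = 4 * Nat.card ↥(E.map π) := by
    have h1 := (π.subgroupMap E).ker.card_mul_index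
    rw [Subgroup.index_ker, MonoidHom.range_eq_top.2 (π.subgroupMap_surjective E), Subgroup.card_top] at h1
    have hk : (π.subgroupMap E).ker = V.subgroupOf E := by
      ext z
      rw [MonoidHom.mem_ker, Subgroup.mem_subgroupOf, Subtype.ext_iff]
      exact QuotientGroup.eq_one_iff (N := V) (z : T)
    rw [hk, Nat.card_congr (Subgroup.subgroupOfEquivOfLe hVE).toEquiv, h.card] at h1
    exact h1.symm
  have hEeq : E = h.wGroup := by
    refine Subgroup.eq_of_le_of_card_ge hEW ?_
    have hd := Subgroup.card_dvd_of_le hEW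
    rw [hW16, hcardE] at hd
    have hne3 : Nat.card ↥(E.map π) ≠ 3 := fun h3 => by rw [h3] at hd; norm_num at hd
    rw [hW16, hcardE]; omega
  -- elements of `wGroup` square to one
  have hWsq : ∀ w ∈ h.wGroup, w * w = 1 ∧ x * w = w * x := by
    have hgen : ∀ g ∈ ((V : Set T) ∪ {x, ρ x}), g * g = 1 ∧ x * g = g * x ∧ ρ x * g = g * ρ x := by
      rintro g (hg | hg | hg)
      · exact ⟨h.sq g hg, Subgroup.mem_center_iff.1 (h.cen hg) x, Subgroup.mem_center_iff.1 (h.cen hg) _⟩
      · rw [show g = x from hg]; exact ⟨hx, rfl, (h.commute_rho x).eq.symm⟩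
      · rw [show g = ρ x from hg]
        exact ⟨by rw [← map_mul, hx, map_one], (h.commute_rho x).eq, rfl⟩
    have hcomm : ∀ g ∈ ((V : Set T) ∪ {x, ρ x}), ∀ k ∈ ((V : Set T) ∪ {x, ρ x}), g * k = k * g := by
      rintro g (hg | hg | hg) k hk
      · exact (Subgroup.mem_center_iff.1 (h.cen hg) k).symm
      · rw [show g = x from hg]; exact (hgen k hk).2.1
      · rw [show g = ρ x from hg]; exact (hgen k hk).2.2
    have hEc : ∀ a ∈ E, ∀ b ∈ E, a * b = b * a := by
      have h1 : E ≤ Subgroup.centralizer (E : Set T) := by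
        rw [hE, Subgroup.centralizer_closure, Subgroup.closure_le]
        exact fun g hg => Subgroup.mem_centralizer_iff.2 fun k hk => hcomm k hk g hg
      exact fun a ha b hb => (Subgroup.mem_centralizer_iff.1 (h1 ha) b hb).symm
    intro w hw
    rw [← hEeq] at hw
    refine ⟨?_, hEc x hxE w hw⟩
    induction hw using Subgroup.closure_induction with
    | mem g hg => exact (hgen g hg).1
    | one => exact one_mul 1
    | mul a b ha hb iha ihb =>
      rw [show a * b * (a * b) = a * (b * a) * b by group, hEc b hb a ha,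
        show a * (a * b) * b = (a * a) * (b * b) by group, iha, ihb, one_mul]
    | inv a ha iha => rw [← mul_inv_rev, iha, inv_one]
  -- `x` is central
  have hxc : x ∈ Subgroup.center T := by
    refine Subgroup.mem_center_iff.2 fun e => ?_
    by_cases he : e ∈ h.wGroup
    · exact (hWsq e he).2.symm
    set w := e⁻¹ * τ e with hw
    have hwW : w ∈ h.wGroup := by
      rw [mem_wGroup, hw, map_mul, map_inv, h.tau2, mul_inv_rev, inv_inv,
        show (τ e)⁻¹ * e * ((τ e)⁻¹ * e) = ((τ e)⁻¹ * e) * ((τ e)⁻¹ * e) from rfl]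
      exact hsV _
    have hwV : w ∉ V := fun hh => he hh
    have hew : ⁅e, w⁆ = 1 := by
      rw [commutatorElement_eq_one_iff_mul_comm]
      have h1 : τ (e * e) = e * e := (h.fix _).2 (hsV e)
      rw [map_mul, show τ e = e * w by rw [hw]; group] at h1
      have h2 : w * (e * w) = e := mul_left_cancel (a := e) (by rw [← mul_assoc]; exact h1)
      have h3 := congrArg (fun z => w * z) h2
      rw [← mul_assoc, (hWsq w hwW).1, one_mul] at h3
      exact h3
    -- `e` commutes with `w` and its orbit, hence with `x`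
    obtain ⟨o1, -, -⟩ := h.orbit_comm (x := w) (y := e) (hcz w) (hcz e)
    have hwe : ⁅w, e⁆ = 1 := by rw [← commutatorElement_inv, hew, inv_one]
    rw [hwe, map_one, map_one] at o1
    let C : Subgroup T := Subgroup.centralizer ({e} : Set T) ⊓ h.wGroup
    have hwC : w ∈ C := ⟨Subgroup.mem_centralizer_singleton_iff.2
      (commutatorElement_eq_one_iff_mul_comm.1 hwe), hwW⟩
    have hρwC : ρ w ∈ C := ⟨Subgroup.mem_centralizer_singleton_iff.2
      (commutatorElement_eq_one_iff_mul_comm.1 o1), h.rho_mem_wGroup hwW⟩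
    have hVC : V ≤ C := fun v hv => ⟨Subgroup.mem_centralizer_singleton_iff.2
      (Subgroup.mem_center_iff.1 (h.cen hv) e).symm, h.le_wGroup hv⟩
    have h3 : 3 ≤ Nat.card ↥(C.map π) := by
      have hsub : ({1, π w, π (ρ w)} : Set (T ⧸ V)) ⊆ (C.map π : Set (T ⧸ V)) := by
        intro z hz
        rcases hz with rfl | rfl | rfl
        exacts [(C.map π).one_mem, ⟨w, hwC, rfl⟩, ⟨_, hρwC, rfl⟩]
      have n1 : π w ≠ 1 := fun e' => hwV ((QuotientGroup.eq_one_iff w).1 e')
      have n2 : π (ρ w) ≠ 1 := fun e' => hwV (by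
        have h1 := h.rho_mem _ (h.rho_mem _ ((QuotientGroup.eq_one_iff (ρ w)).1 e'))
        rwa [h.rho3] at h1)
      have n3 : π w ≠ π (ρ w) := fun e' => hwV (h.mem_of_twist_mem V h.rho_mem (QuotientGroup.eq.1 e'))
      have := Set.ncard_le_ncard hsub (Set.toFinite _)
      rw [Set.ncard_eq_three.2 ⟨1, π w, π (ρ w), n1.symm, n2.symm, n3, rfl⟩] at this
      rwa [← Nat.card_coe_set_eq] at this
    have hcardC : Nat.card ↥C = 4 * Nat.card ↥(C.map π) := by
      have h1 := (π.subgroupMap C).ker.card_mul_index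
      rw [Subgroup.index_ker, MonoidHom.range_eq_top.2 (π.subgroupMap_surjective C), Subgroup.card_top] at h1
      have hk : (π.subgroupMap C).ker = V.subgroupOf C := by
        ext z
        rw [MonoidHom.mem_ker, Subgroup.mem_subgroupOf, Subtype.ext_iff]
        exact QuotientGroup.eq_one_iff (N := V) (z : T)
      rw [hk, Nat.card_congr (Subgroup.subgroupOfEquivOfLe hVC).toEquiv, h.card] at h1
      exact h1.symm
    have hCeq : C = h.wGroup := by
      refine Subgroup.eq_of_le_of_card_ge inf_le_right ?_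
      have hd := Subgroup.card_dvd_of_le (inf_le_right : C ≤ h.wGroup)
      rw [hW16, hcardC] at hd
      have hne3 : Nat.card ↥(C.map π) ≠ 3 := fun h3 => by rw [h3] at hd; norm_num at hd
      rw [hW16, hcardC]; omega
    have hxC : x ∈ C := hCeq ▸ hxW
    exact (Subgroup.mem_centralizer_singleton_iff.1 hxC.1).symm
  refine h.comm_of_index_center ?_
  have hle : h.wGroup ≤ Subgroup.center T := by
    rw [← hEeq, hE, Subgroup.closure_le]
    rintro g (hg | hg | hg)
    · exact h.cen hg
    · rw [show g = x from hg]; exact hxc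
    · rw [show g = ρ x from hg]; exact center_invariant ρ x hxc
  refine le_trans (Nat.le_of_dvd (Nat.pos_of_ne_zero Subgroup.index_ne_zero_of_finite)
    (Subgroup.index_dvd_of_le hle)) ?_
  have := h.wGroup.card_mul_index
  rw [hW16, h64] at this
  omega

theorem nonempty_uni_equiv [Fintype F] (h : TV V ρ τ) (hF : Fintype.card F = 4)
    (hna : ¬ ∀ x y : T, x * y = y * x) {x : T} (hx : x * x = 1) (hxV : x ∉ V) :
    Nonempty (T ≃* Uni F) := by
  classical
  obtain ⟨h64, hcV, hsV⟩ := nonabelian (Nat.card T) V ρ τ rfl h hna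
  have hcz : ∀ a b : T, ⁅a, b⁆ ∈ Subgroup.center T := fun a b => h.cen (hcV a b)
  set y := τ x with hy
  set a := ⁅x, y⁆ with ha
  have ha1 : a ≠ 1 := h.exists_tau_pair hna h64 hcV hsV hx hxV
  have hy2 : y * y = 1 := by rw [hy, ← map_mul, hx, map_one]
  obtain ⟨o1, o2, o3⟩ := h.orbit_comm (x := x) (y := y) (hcz x) (hcz y)
  set c := ρ (ρ a) with hcdef
  have haV : a ∈ V := hcV x y
  have hcV' : c ∈ V := h.rho_mem _ (h.rho_mem _ haV)
  have hρa : ρ a = a * c := by
    have h1 := h.mul_three a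
    have h2 : ρ a * c = a⁻¹ := eq_inv_of_mul_eq_one_right (by rw [← mul_assoc]; exact h1)
    have hai : a⁻¹ = a := inv_eq_of_mul_eq_one_right (h.sq a haV)
    rw [hai] at h2
    calc ρ a = ρ a * c * c := by rw [mul_assoc, h.sq c hcV', mul_one]
      _ = a * c := by rw [h2]
  -- the field
  obtain ⟨ω, hω0, hω1⟩ : ∃ ω : F, ω ≠ 0 ∧ ω ≠ 1 := by
    by_contra hh
    push Not at hh
    have : (Finset.univ : Finset F) ⊆ {0, 1} := fun t _ => by
      by_cases ht : t = 0
      · simp [ht]
      · simp [hh t ht]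
    have := (Finset.card_le_card this).trans Finset.card_le_two
    simp [hF] at this
  have h2 : ∀ t : F, t + t = 0 := by
    intro t
    have h1 : ((4 : ℕ) : F) = 0 := by rw [← hF]; simp
    have h4 : (2 : F) = 0 := by
      have : (2 : F) * 2 = 0 := by rw [← h1]; norm_num
      exact mul_self_eq_zero.1 this
    rw [← two_mul, h4, zero_mul]
  have hn : (1 : F) + ω ≠ 0 ∧ (1 : F) + ω ≠ 1 ∧ (1 : F) + ω ≠ ω := by
    refine ⟨fun e => hω1 ?_, fun e => hω0 (by simpa using e), by simp⟩
    calc ω = (1 + 1) + ω := by rw [h2, zero_add]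
      _ = 1 := by rw [add_assoc, e, add_zero]
  have hall : ∀ t : F, t = 0 ∨ t = 1 ∨ t = ω ∨ t = 1 + ω := by
    have : ({0, 1, ω, 1 + ω} : Finset F) = Finset.univ := by
      refine Finset.eq_univ_of_card _ ?_
      rw [hF]
      simp [hω0.symm, hω1.symm, hn.1.symm, hn.2.1.symm, hn.2.2.symm]
    intro t
    have ht := Finset.mem_univ t
    rw [← this] at ht
    simpa using ht
  have hωω : ω * ω = 1 + ω := by
    rcases hall (ω * ω) with e | e | e | e
    · exact absurd (mul_self_eq_zero.1 e) hω0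
    · exfalso
      apply hω1
      have : (ω + 1) * (ω + 1) = 0 := by
        calc (ω + 1) * (ω + 1) = ω * ω + (ω + ω) + 1 := by ring
          _ = 0 := by rw [e, h2, add_zero, h2]
      calc ω = (ω + 1) + 1 := by rw [add_assoc, h2, add_zero]
        _ = 1 := by rw [mul_self_eq_zero.1 this, zero_add]
    · exact absurd (mul_right_cancel₀ hω0 (e.trans (one_mul ω).symm)) hω1
    · exact e
  have hρ2 : ∀ z : T, z * z = 1 → ρ z * ρ z = 1 := fun z hz => by rw [← map_mul, hz, map_one]
  obtain ⟨X, hX1, hXω, hXadd, -⟩ := exists_add_hom hall h2 hω0 hω1 x (ρ x) hx (hρ2 x hx) (h.commute_rho x).eq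
  obtain ⟨Y, hY1, hYω, hYadd, -⟩ := exists_add_hom hall h2 hω0 hω1 y (ρ y) hy2 (hρ2 y hy2) (h.commute_rho y).eq
  obtain ⟨Z, hZ1, hZω, hZadd, hZim⟩ := exists_add_hom hall h2 hω0 hω1 a c (h.sq a haV) (h.sq c hcV')
    (Subgroup.mem_center_iff.1 (h.cen hcV') a)
  have hZV : ∀ t, Z t ∈ V := fun t => by
    rcases hZim t with e | e | e | e <;> rw [e]
    exacts [V.one_mem, haV, hcV', V.mul_mem haV hcV']
  have hzero : ∀ f : F → T, (∀ s t, f (s + t) = f s * f t) → f 0 = 1 := fun f hf => by
    have := hf 0 0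
    rw [add_zero] at this
    exact left_eq_mul.1 this
  -- commutation of the two elementary abelian parts
  have hP : ∀ v u : F, ⁅X v, Y u⁆ = Z (v * u) := by
    have hpu : ∀ v, ⁅X v, Y 1⁆ = Z (v * 1) → ⁅X v, Y ω⁆ = Z (v * ω) → ∀ u, ⁅X v, Y u⁆ = Z (v * u) := by
      intro v hv1 hvω u
      rcases hall u with rfl | rfl | rfl | rfl
      · rw [mul_zero, hzero Y hYadd, hzero Z hZadd, commutatorElement_one_right]
      · exact hv1
      · exact hvω
      · rw [hYadd, comm_mul_right (hcz _ _), hv1, hvω, mul_add, hZadd]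
    have b11 : ⁅X 1, Y 1⁆ = Z (1 * 1) := by rw [hX1, hY1, one_mul, hZ1]
    have b1ω : ⁅X 1, Y ω⁆ = Z (1 * ω) := by rw [hX1, hYω, one_mul, hZω, o2, hcdef, ha]
    have bω1 : ⁅X ω, Y 1⁆ = Z (ω * 1) := by rw [hXω, hY1, mul_one, hZω, o1, hcdef, ha]
    have bωω : ⁅X ω, Y ω⁆ = Z (ω * ω) := by
      rw [hXω, hYω, hωω, hZadd, hZ1, hZω, ← hρa, o3, ha]
    have p1 := hpu 1 b11 b1ω
    have pω := hpu ω bω1 bωω
    intro v u
    rcases hall v with rfl | rfl | rfl | rfl
    · rw [zero_mul, hzero X hXadd, hzero Z hZadd, commutatorElement_one_left]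
    · exact p1 u
    · exact pω u
    · rw [hXadd, comm_mul_left (hcz _ _), p1, pω, add_mul, hZadd]
  have hswap : ∀ v u : F, X v * Y u = Y u * X v * Z (v * u) := by
    intro v u
    have h1 : ⁅X v, Y u⁆ * (Y u * X v) = X v * Y u := by rw [commutatorElement_def]; group
    rw [← h1, hP, Subgroup.mem_center_iff.1 (h.cen (hZV _)) (Y u * X v)]
  let Φ : Uni F →* T :=
    { toFun := fun g => Y g.u * X g.v * Z g.w
      map_one' := by simp [hzero X hXadd, hzero Y hYadd, hzero Z hZadd]
      map_mul' := fun g g' => by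
        have hc1 : ∀ z t, Z t * z = z * Z t := fun z t =>
          (Subgroup.mem_center_iff.1 (h.cen (hZV t)) z).symm
        simp only [uni_mul_u, uni_mul_v, uni_mul_w, hXadd, hYadd, hZadd]
        symm
        calc Y g.u * X g.v * Z g.w * (Y g'.u * X g'.v * Z g'.w)
            = Y g.u * X g.v * (Z g.w * (Y g'.u * X g'.v)) * Z g'.w := by group
          _ = Y g.u * (X g.v * Y g'.u) * X g'.v * (Z g.w * Z g'.w) := by rw [hc1]; group
          _ = Y g.u * Y g'.u * X g.v * (Z (g.v * g'.u) * X g'.v) * (Z g.w * Z g'.w) := by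
            rw [hswap]; group
          _ = Y g.u * Y g'.u * (X g.v * X g'.v) * (Z (g.v * g'.u) * (Z g.w * Z g'.w)) := by
            rw [hc1]; group
          _ = _ := by rw [hc1 (Z g.w * Z g'.w) (g.v * g'.u)] }
  have hZinj : ∀ t, Z t = 1 → t = 0 := by
    intro t ht
    rcases hall t with rfl | rfl | rfl | rfl
    · rfl
    · exact absurd (hZ1 ▸ ht) ha1
    · exfalso
      apply ha1
      have h1 : ρ (ρ a) = 1 := hcdef ▸ hZω ▸ ht
      exact ρ.map_eq_one_iff.1 (ρ.map_eq_one_iff.1 h1)
    · exfalso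
      rw [hZadd, hZ1, hZω, ← hρa] at ht
      exact ha1 (ρ.map_eq_one_iff.1 ht)
  have hinj : Function.Injective Φ := by
    rw [← MonoidHom.ker_eq_bot_iff, Subgroup.eq_bot_iff_forall]
    intro g hg
    have hg : Y g.u * X g.v * Z g.w = 1 := MonoidHom.mem_ker.1 hg
    have h1 : ∀ z : T, ⁅z, Y g.u⁆ * ⁅z, X g.v⁆ = 1 := fun z => by
      have hz : ⁅z, Y g.u * X g.v * Z g.w⁆ = 1 := by rw [hg, commutatorElement_one_right]
      rw [comm_mul_right (hcz _ _), comm_mul_right (hcz _ _),
        commutatorElement_eq_one_iff_mul_comm.2 (Subgroup.mem_center_iff.1 (h.cen (hZV _)) z),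
        mul_one] at hz
      exact hz
    have hu : g.u = 0 := by
      have h2 := h1 (X 1)
      have hxx : X 1 * X g.v = X g.v * X 1 := by rw [← hXadd, ← hXadd, add_comm]
      rw [commutatorElement_eq_one_iff_mul_comm.2 hxx, mul_one, hP, one_mul] at h2
      exact hZinj _ h2
    have hv : g.v = 0 := by
      have h2 := h1 (Y 1)
      have hyy : Y 1 * Y g.u = Y g.u * Y 1 := by rw [← hYadd, ← hYadd, add_comm]
      rw [commutatorElement_eq_one_iff_mul_comm.2 hyy, one_mul, ← commutatorElement_inv, hP,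
        mul_one, inv_eq_one] at h2
      exact hZinj _ h2
    have hw : g.w = 0 := by
      rw [hu, hv, hzero X hXadd, hzero Y hYadd, one_mul, one_mul] at hg
      exact hZinj _ hg
    exact Uni.ext hu hv hw
  haveI : Finite (Uni F) := Finite.of_injective Φ hinj
  have hcard : Nat.card (Uni F) = Nat.card T := by rw [natCard_uni, hF, h64]; norm_num
  exact ⟨(MulEquiv.ofBijective Φ ((Nat.bijective_iff_injective_and_card Φ).2 ⟨hinj, hcard⟩)).symm⟩

end TV

end CfsgLib.LocalEven.FixedFours
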